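import Cfsg.Agent.Lib.StdTwoAEight.Pair
import Cfsg.Agent.S2119
import Cfsg.Prelude.Def_Local

/-!
A standard subgroup of type 2.A8 gives the data of `Std`.
-/

set_option autoImplicit false

namespace CfsgLib.StdTwoAEight

open Equiv Subgroup
open CfsgAltCentInv (Cov)

variable {G : Type*} [Group G] [Finite G]

theorem card_twoA8 {L : Subgroup G} (hLX : Cfsg.IsNonsplitDoubleCover ↥L ↥(alternatingGroup (Fin 8))) :
    Nat.card L = 40320 := by
  obtain ⟨h2, ⟨e⟩, -⟩ := hLX
  have h8 : Nat.card (alternatingGroup (Fin 8)) = 20160 := by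
    have h := two_mul_nat_card_alternatingGroup (α := Fin 8)
    rw [Nat.card_perm, Nat.card_fin, show Nat.factorial 8 = 40320 by decide] at h
    omega
  rw [Subgroup.card_eq_card_quotient_mul_card_subgroup (center L), h2, Nat.card_congr e.toEquiv, h8]

theorem exists_std {L : Subgroup G} (hL : Cfsg.IsStandardSubgroup L)
    (hLX : Cfsg.IsNonsplitDoubleCover ↥L ↥(alternatingGroup (Fin 8))) :
    ∃ (z : G) (p : G → Perm (Fin 8)), Std L z p ∧
      ∀ σ τ : Perm (Fin 8), (∀ ρ : Perm (Fin 8), Perm.sign ρ = 1 → σ * ρ * σ⁻¹ = τ * ρ * τ⁻¹) → σ = τ := by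
  classical
  haveI : Fact (Nat.Prime 2) := ⟨Nat.prime_two⟩
  obtain ⟨π, z0, h, hker⟩ := CfsgAltCentInv.exists_cov (by norm_num) hLX
  set C := centralizer (L : Set G) with hC
  obtain ⟨-, ⟨-, htight⟩, -, hnorm⟩ := hL
  have hinf : ∀ x ∈ C, ∀ hx : x ∈ L, π ⟨x, hx⟩ = 1 := fun x hxC hx => by
    have : (⟨x, hx⟩ : L) ∈ center L :=
      mem_center_iff.mpr fun y => Subtype.ext (mem_centralizer_iff.mp hxC y y.2)
    rw [← hker] at this
    exact this
  have hzC : (z0 : G) ∈ C := mem_centralizer_iff.mpr fun l hl =>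
    congrArg Subtype.val (h.z_cen ⟨l, hl⟩)
  set z : G := (z0 : G) with hz
  have z2 : z * z = 1 := congrArg Subtype.val h.z_sq
  have z1 : z ≠ 1 := fun e => h.ne (Subtype.ext e)
  have ztwo : orderOf z = 2 := orderOf_eq_prime (by rw [pow_two, z2]) z1
  have hzN : ∀ g ∈ normalizer (L : Set G), g * z * g⁻¹ = z := by
    intro g hg
    have h1 : g * z * g⁻¹ ∈ L := (mem_normalizer_iff.mp hg z).mp z0.2
    have h2 : g * z * g⁻¹ ∈ C := (mem_normalizer_iff.mp (hnorm ▸ hg) z).mp hzC
    rcases (h.ker ⟨_, h1⟩).mp (hinf _ h2 h1) with e | e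
    · exact absurd (conj_eq_one_iff.mp (congrArg Subtype.val e)) z1
    · exact congrArg Subtype.val e
  have hNz : ∀ g : G, g * z = z * g → g ∈ normalizer (L : Set G) := by
    intro g hg
    by_contra hn
    have hodd := htight g (hnorm ▸ hn)
    have hmem : z ∈ C ⊓ C.map (MulAut.conj g).toMonoidHom :=
      ⟨hzC, z, hzC, by show g * z * g⁻¹ = z; rw [hg, mul_inv_cancel_right]⟩
    exact Nat.not_even_iff_odd.mpr hodd (even_iff_two_dvd.mpr (ztwo ▸ Subgroup.orderOf_dvd_natCard _ hmem))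
  have hnormL : ∀ g : G, g * z = z * g → ∀ l ∈ L, g * l * g⁻¹ ∈ L := fun g hg l hl =>
    (mem_normalizer_iff.mp (hNz g hg) l).mp hl
  -- automorphisms of the alternating group
  have hbij := Cfsg.Agent.S2119.result 8 (by norm_num) (by norm_num)
  have huniq : ∀ σ τ : Perm (Fin 8),
      (∀ ρ : Perm (Fin 8), Perm.sign ρ = 1 → σ * ρ * σ⁻¹ = τ * ρ * τ⁻¹) → σ = τ := fun σ τ hρ =>
    hbij.1 (MulEquiv.ext fun a => Subtype.ext (hρ a (Perm.mem_alternatingGroup.mp a.2)))
  let f : L →* alternatingGroup (Fin 8) :=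
    π.codRestrict (alternatingGroup (Fin 8)) fun l => Perm.mem_alternatingGroup.mpr (h.cover.even l)
  have hf : Function.Surjective f := fun a => by
    obtain ⟨x, hx⟩ := h.cover.onto a (Perm.mem_alternatingGroup.mp a.2)
    exact ⟨x, Subtype.ext hx⟩
  have hf1 : ∀ x : L, f x = 1 ↔ π x = 1 := fun x =>
    ⟨fun e => congrArg Subtype.val e, fun e => Subtype.ext e⟩
  let P : G → Perm (Fin 8) → Prop := fun g σ =>
    ∀ (l : G) (hl : l ∈ L) (h' : g * l * g⁻¹ ∈ L), σ * π ⟨l, hl⟩ * σ⁻¹ = π ⟨_, h'⟩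
  have hex : ∀ g : G, g * z = z * g → ∃ σ, P g σ := by
    intro g hg
    let c : L →* L :=
      { toFun := fun l => ⟨g * l * g⁻¹, hnormL g hg l l.2⟩
        map_one' := Subtype.ext (by simp)
        map_mul' := fun a b => Subtype.ext (by simp [mul_assoc]) }
    have hcinj : Function.Injective c := fun a b e =>
      Subtype.ext (mul_left_cancel (mul_right_cancel (congrArg Subtype.val e)))
    have hcz : c z0 = z0 := Subtype.ext (show g * z * g⁻¹ = z by rw [hg, mul_inv_cancel_right])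
    have hle : f.ker ≤ (f.comp c).ker := fun x hx => by
      rw [MonoidHom.mem_ker, hf1, h.ker] at hx
      rw [MonoidHom.mem_ker, MonoidHom.comp_apply, hf1, h.ker]
      rcases hx with rfl | rfl
      exacts [Or.inl (map_one c), Or.inr hcz]
    let φ := f.liftOfSurjective hf ⟨f.comp c, hle⟩
    have hφ : ∀ x, φ (f x) = f (c x) := fun x => f.liftOfRightInverse_comp_apply _ _ ⟨f.comp c, hle⟩ x
    have hinj : Function.Injective φ := (injective_iff_map_eq_one φ).mpr fun a ha => by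
      obtain ⟨x, rfl⟩ := hf a
      rw [hφ, hf1, h.ker] at ha
      rw [hf1, h.ker]
      rcases ha with e | e
      · exact Or.inl (hcinj (e.trans (map_one c).symm))
      · exact Or.inr (hcinj (e.trans hcz.symm))
    obtain ⟨σ, hσ⟩ := hbij.2 (MulEquiv.ofBijective φ (Finite.injective_iff_bijective.mp hinj))
    refine ⟨σ, fun l hl h' => ?_⟩
    have e := congrArg (fun ψ : MulAut (alternatingGroup (Fin 8)) => (ψ (f ⟨l, hl⟩) : Perm (Fin 8))) hσ
    rw [MulEquiv.ofBijective_apply, hφ] at e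
    exact e
  let p : G → Perm (Fin 8) := fun g => if hg : ∃ σ, P g σ then Classical.choose hg else 1
  have hp : ∀ g : G, g * z = z * g → P g (p g) := fun g hg => by
    simp only [p, dif_pos (hex g hg)]
    exact Classical.choose_spec (hex g hg)
  have hpu : ∀ (g : G) (σ : Perm (Fin 8)), g * z = z * g → P g σ → p g = σ := fun g σ hg hσ =>
    huniq _ _ fun ρ hρ => by
      obtain ⟨⟨x, hx⟩, rfl⟩ := h.cover.onto ρ hρ
      rw [hp g hg x hx (hnormL g hg x hx), hσ x hx (hnormL g hg x hx)]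
  have hmap : ∀ a b : G, a * z = z * a → b * z = z * b → p (a * b) = p a * p b := by
    intro a b ha hb
    have hab : a * b * z = z * (a * b) := (Commute.mul_left ha hb).eq
    refine hpu _ _ hab fun l hl h' => ?_
    have h1 := hnormL b hb l hl
    have h2 := hnormL a ha _ h1
    calc p a * p b * π ⟨l, hl⟩ * (p a * p b)⁻¹ = p a * (p b * π ⟨l, hl⟩ * (p b)⁻¹) * (p a)⁻¹ := by group
      _ = π ⟨_, h2⟩ := by rw [hp b hb l hl h1, hp a ha _ h1 h2]
      _ = π ⟨_, h'⟩ := by congr 1; exact Subtype.ext (by group)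
  have hpL : ∀ l : L, π l = p l := fun l => by
    refine (hpu _ _ (congrArg Subtype.val (h.z_cen l)) fun x hx h' => ?_).symm
    rw [← map_inv, ← map_mul, ← map_mul]
    rfl
  refine ⟨z, p, ⟨ztwo, z0.2, fun l hl => congrArg Subtype.val (h.z_cen ⟨l, hl⟩), hnormL, hmap, fun a ha => ?_,
    ⟨π, hpL, h⟩, fun g hg x hx hxg hx2 => ?_⟩, huniq⟩
  · constructor
    · intro e
      have hπ : ∀ l : L, π ⟨a * l * a⁻¹, hnormL a ha l l.2⟩ = π l := fun l => by
        rw [← hp a ha l l.2, e, one_mul, inv_one, mul_one]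
      let χ : L →* center L :=
        { toFun := fun l => ⟨⟨a * l * a⁻¹, hnormL a ha l l.2⟩ * l⁻¹, by
            rw [← hker, MonoidHom.mem_ker, map_mul, map_inv, hπ, mul_inv_cancel]⟩
          map_one' := Subtype.ext (Subtype.ext (by simp))
          map_mul' := fun u v => by
            refine Subtype.ext (Subtype.ext ?_)
            have hc : π (⟨a * v * a⁻¹, hnormL a ha v v.2⟩ * v⁻¹) = 1 := by
              rw [map_mul, map_inv, hπ, mul_inv_cancel]
            have hcen := congrArg Subtype.val (h.cover.cen hc u⁻¹)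
            simp only [Subgroup.coe_mul, InvMemClass.coe_inv] at hcen ⊢
            calc a * (↑u * ↑v) * a⁻¹ * (↑u * ↑v)⁻¹ = a * ↑u * a⁻¹ * (a * ↑v * a⁻¹ * (↑v)⁻¹ * (↑u)⁻¹) := by group
              _ = a * ↑u * a⁻¹ * ((↑u)⁻¹ * (a * ↑v * a⁻¹ * (↑v)⁻¹)) := by rw [hcen]
              _ = a * ↑u * a⁻¹ * (↑u)⁻¹ * (a * ↑v * a⁻¹ * (↑v)⁻¹) := by group }
      refine mem_centralizer_iff.mpr fun l hl => ?_
      have hχ : χ ⟨l, hl⟩ = 1 := by
        letI : CommGroup (center L) := { (inferInstance : Group (center L)) with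
          mul_comm := fun u v => Subtype.ext (mem_center_iff.mp v.2 u.1) }
        exact Abelianization.commutator_subset_ker χ (by rw [h.cover.perfect]; trivial)
      have h1 : a * l * a⁻¹ * l⁻¹ = 1 := congrArg (fun u : center L => (u.1 : G)) hχ
      exact (mul_inv_eq_iff_eq_mul.mp (mul_inv_eq_one.mp h1)).symm
    · intro hac
      refine hpu a 1 ha fun l hl h' => ?_
      rw [one_mul, inv_one, mul_one]
      congr 1
      exact Subtype.ext (show l = a * l * a⁻¹ by rw [← mem_centralizer_iff.mp hac l hl, mul_inv_cancel_right])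
  · have hn : g ∉ normalizer (L : Set G) := fun e => hg (hzN g e)
    have hodd := htight g (hnorm ▸ hn)
    have hmem : x ∈ C ⊓ C.map (MulAut.conj g).toMonoidHom := ⟨hx, mem_conjL.mpr hxg⟩
    by_contra hx1
    refine Nat.not_even_iff_odd.mpr hodd (even_iff_two_dvd.mpr ?_)
    rw [← orderOf_eq_prime (p := 2) (by rw [pow_two, hx2]) hx1]
    exact Subgroup.orderOf_dvd_natCard _ hmem

end CfsgLib.StdTwoAEight
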