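import Cfsg.Agent.Lib.StdTwoAEight.Pair
import Cfsg.Agent.Lib.AltCover.Involutions
import Cfsg.Agent.Lib.A8Classes.Cores
import Cfsg.Agent.Lib.JTType.Sign

/-!
The centraliser of the involution is the product of the double cover and an odd subgroup.
-/

set_option autoImplicit false
set_option linter.unusedSectionVars false

namespace CfsgLib.StdTwoAEight

open Equiv Subgroup
open CfsgAltCentInv (dbl sign_dbl)

variable {G : Type*} [Group G] [Finite G] {L : Subgroup G} {z : G} {p : G → Perm (Fin 8)}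

theorem Std.p_pow (S : Std L z p) {a : G} (ha : a * z = z * a) (n : ℕ) : p (a ^ n) = p a ^ n := by
  induction n with
  | zero => rw [pow_zero, pow_zero, S.p_one]
  | succ n ih => rw [pow_succ, pow_succ, S.map _ _ (Commute.pow_left ha n).eq ha, ih]

theorem Std.p_conj (S : Std L z p) {x l : G} (hx : x * z = z * x) (hl : l * z = z * l) :
    p (x * l * x⁻¹) = p x * p l * (p x)⁻¹ := by
  refine eq_mul_inv_of_mul_eq ?_
  rw [← S.map _ _ ((Commute.mul_left hx hl).mul_left (Commute.inv_left hx)).eq hx, ← S.map _ _ hx hl]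
  congr 1
  group

theorem Std.invol_type (S : Std L z p) {l : G} (hl : l ∈ L) (h2 : l * l = 1) (h1 : p l ≠ 1) :
    p l * p l = 1 ∧ (p l).support.card = 8 := by
  have hp : p l * p l = 1 := by rw [← S.map _ _ (S.cen l hl) (S.cen l hl), h2, S.p_one]
  refine ⟨hp, ?_⟩
  rcases support_cases hp h1 with ⟨-, hc | hc⟩ | ⟨e, -⟩
  · have := (S.invol_sq hl hp).2
    rw [h2, hc, Nat.div_self (by norm_num), pow_one] at this
    exact absurd this.symm S.z_ne
  · exact hc
  · rw [S.sign_L hl] at e; exact absurd e (by decide)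

/-- An involution of `L` outside the centre is conjugate in `L` to its product with `z`. -/
theorem Std.exists_flip (S : Std L z p) {l : G} (hl : l ∈ L) (h2 : l * l = 1) (h1 : p l ≠ 1) :
    ∃ y ∈ L, y * l * y⁻¹ = l * z := by
  obtain ⟨hp, hc⟩ := S.invol_type hl h2 h1
  obtain ⟨g, hg⟩ := invol_isConj hp (ρ := dbl 0 1 2 3 * dbl 4 5 6 7) (by decide) (by rw [hc]; decide)
  set X := g * dbl 0 1 2 3 * g⁻¹ with hX
  set Y := g * dbl 4 5 6 7 * g⁻¹ with hY
  set W := g * dbl 0 2 1 3 * g⁻¹ with hW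
  have sg : ∀ (a b c d : Fin 8), [a, b, c, d].Nodup → Perm.sign (g * dbl a b c d * g⁻¹) = 1 := fun a b c d h => by
    simp [sign_dbl h]
  obtain ⟨A, hA, eA⟩ := S.onto (sg 0 1 2 3 (by decide))
  obtain ⟨B, hB, eB⟩ := S.onto (sg 4 5 6 7 (by decide))
  obtain ⟨C, hC, eC⟩ := S.onto (sg 0 2 1 3 (by decide))
  have hAB : p (A * B) = p l := by
    rw [S.map _ _ (S.cen _ hA) (S.cen _ hB), eA, eB, ← hg]; group
  have hCA : C * A * C⁻¹ = A * z := by
    refine S.anti hC hA (eC ▸ IsDbl.conj ⟨0, 2, 1, 3, by decide, rfl⟩ g)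
      (eA ▸ IsDbl.conj ⟨0, 1, 2, 3, by decide, rfl⟩ g) ?_
    rw [eC, eA, show g * dbl 0 2 1 3 * g⁻¹ * (g * dbl 0 1 2 3 * g⁻¹) = g * (dbl 0 2 1 3 * dbl 0 1 2 3) * g⁻¹ by
      group]
    exact IsDbl.conj ⟨0, 3, 1, 2, by decide, by decide⟩ g
  have hCB : C * B = B * C := by
    refine S.commute_disjoint hC hB fun w hw => ?_
    obtain ⟨v, rfl⟩ := g.surjective w
    rw [eC] at hw
    rw [eB]
    simp at hw ⊢
    revert hw
    revert v
    decide
  have key : C * (A * B) * C⁻¹ = A * B * z := by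
    rw [show C * (A * B) * C⁻¹ = C * A * C⁻¹ * (C * B * C⁻¹) by group, hCA, hCB, mul_inv_cancel_right,
      mul_assoc, ← S.cen B hB, mul_assoc]
  refine ⟨C, hC, ?_⟩
  rcases S.eq_or hl (L.mul_mem hA hB) hAB.symm with rfl | rfl
  · exact key
  · rw [show C * (A * B * z) * C⁻¹ = C * (A * B) * C⁻¹ * (C * z * C⁻¹) by group, key, S.cen C hC,
      mul_inv_cancel_right]

/-- The involutions of `L` outside the centre are conjugate in `L`. -/
theorem Std.conj_class (S : Std L z p) {l l' : G} (hl : l ∈ L) (h2 : l * l = 1) (h1 : p l ≠ 1)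
    (hl' : l' ∈ L) (h2' : l' * l' = 1) (h1' : p l' ≠ 1) : ∃ x ∈ L, x * l * x⁻¹ = l' := by
  obtain ⟨hp, hc⟩ := S.invol_type hl h2 h1
  obtain ⟨hp', hc'⟩ := S.invol_type hl' h2' h1'
  obtain ⟨x0, hx0⟩ : ∃ x0, p l x0 ≠ x0 := by by_contra! hno; exact h1 (Equiv.ext hno)
  have hcomm : Commute (swap x0 (p l x0)) (p l) := by
    refine ((mul_inv_eq_iff_eq_mul (a := p l * swap x0 (p l x0)) (b := p l)).mp ?_).symm
    rw [← Equiv.swap_apply_apply, ← Perm.mul_apply, hp, Perm.one_apply, swap_comm]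
  obtain ⟨k, hk, hkh, -⟩ := invol_cycleType hp
  obtain ⟨k', hk', hkh', -⟩ := invol_cycleType hp'
  obtain ⟨σ, hσ, hσe⟩ := CfsgAltCover.conj_even (s := p l) (t := p l') (by rw [hk, hk', show k = k' by omega])
    hcomm (Perm.sign_swap (Ne.symm hx0))
  obtain ⟨x, hx, hxe⟩ := S.onto (Perm.mem_alternatingGroup.mp hσ)
  have hm := L.mul_mem (L.mul_mem hx hl) (L.inv_mem hx)
  rcases S.eq_or hm hl' (by rw [S.p_conj (S.cen x hx) (S.cen l hl), hxe, hσe]) with e | e
  · exact ⟨x, hx, e⟩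
  obtain ⟨y, hy, hye⟩ := S.exists_flip hl' h2' h1'
  refine ⟨y * x, L.mul_mem hy hx, ?_⟩
  rw [show y * x * l * (y * x)⁻¹ = y * (x * l * x⁻¹) * y⁻¹ by group, e,
    show y * (l' * z) * y⁻¹ = y * l' * y⁻¹ * (y * z * y⁻¹) by group, hye, S.cen y hy, mul_inv_cancel_right,
    mul_assoc, S.z_sq, mul_one]

variable {g : G}

/-- The part of the centraliser of `L` centralising the conjugate of `L`. -/
def Odd' (L : Subgroup G) (g : G) : Subgroup G :=
  centralizer (L : Set G) ⊓ centralizer (L.map (MulAut.conj g).toMonoidHom : Set G)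

/-- The hypotheses on the conjugating element. -/
structure Fus (z g : G) : Prop where
  ne : g * z * g⁻¹ ≠ z
  comm : z * (g * z * g⁻¹) = g * z * g⁻¹ * z

theorem Fus.rev (F : Fus z g) : Fus (g * z * g⁻¹) g⁻¹ := by
  have e : g⁻¹ * (g * z * g⁻¹) * g⁻¹⁻¹ = z := by group
  exact ⟨by rw [e]; exact F.ne.symm, by rw [e]; exact F.comm.symm⟩

theorem Std.cent_image (S : Std L z p) (F : Fus z g) {k : G} (hk : k ∈ centralizer (L : Set G)) :
    k * (g * z * g⁻¹) = g * z * g⁻¹ * k ∧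
      (p (g⁻¹ * k * g) = 1 ∨ p (g⁻¹ * k * g) = p (g⁻¹ * z * g)) := by
  have ha := S.mem_of_commute F.ne F.comm
  have haa : g * z * g⁻¹ * (g * z * g⁻¹) = 1 := (S.conj g).z_sq
  have hka := (mem_centralizer_iff.mp hk _ ha).symm
  exact ⟨hka, S.image_central F.ne F.comm ha (by rw [← S.map _ _ (S.cen _ ha) (S.cen _ ha), haa, S.p_one])
    (S.p_other F.ne F.comm).1 (fun x _ h => h) hka (fun x hx _ => (mem_centralizer_iff.mp hk x hx).symm)⟩

theorem Std.split (S : Std L z p) (F : Fus z g) {k : G} (hk : k ∈ centralizer (L : Set G)) :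
    k ∈ Odd' L g ∨ k * z ∈ Odd' L g := by
  have S' := S.conj g
  obtain ⟨hka, h | h⟩ := S.cent_image F hk
  · exact Or.inl ⟨hk, (S'.ker k hka).mp h⟩
  · refine Or.inr ⟨Subgroup.mul_mem _ hk S.z_cent, (S'.ker _ (Commute.mul_left hka F.comm).eq).mp ?_⟩
    have e1 := S'.map _ _ hka F.comm
    have e2 := S'.map _ _ F.comm F.comm
    rw [S.z_sq, S'.p_one] at e2
    rw [e1, h, ← e2]

theorem Std.z_notMem (S : Std L z p) (F : Fus z g) : z ∉ Odd' L g := fun h =>
  (S.p_other F.ne F.comm).2 (((S.conj g).ker z F.comm).mpr h.2)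

theorem Std.odd_card (S : Std L z p) (F : Fus z g) : Odd (Nat.card (Odd' L g)) := by
  haveI : Fact (Nat.Prime 2) := ⟨Nat.prime_two⟩
  rw [← Nat.not_even_iff_odd, even_iff_two_dvd]
  intro h
  obtain ⟨x, hx⟩ := exists_prime_orderOf_dvd_card' 2 h
  have h2 : (x : G) * x = 1 := by
    rw [← pow_two, ← hx, ← Subgroup.orderOf_coe, pow_orderOf_eq_one]
  have := S.tight g F.ne x x.2.1 (mem_cent_conjL.mp x.2.2) h2
  rw [← Subgroup.orderOf_coe, this, orderOf_one] at hx
  exact absurd hx (by norm_num)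

theorem Std.odd_mem (S : Std L z p) (F : Fus z g) {k : G} (hk : k ∈ centralizer (L : Set G))
    (hodd : Odd (orderOf k)) : k ∈ Odd' L g := by
  have S' := S.conj g
  obtain ⟨hka, h | h⟩ := S.cent_image F hk
  · exact ⟨hk, (S'.ker k hka).mp h⟩
  exfalso
  have e := S'.p_pow hka (orderOf k)
  rw [pow_orderOf_eq_one, S'.p_one] at e
  obtain ⟨m, hm⟩ := hodd
  have e2 : p (g⁻¹ * z * g) * p (g⁻¹ * z * g) = 1 := by
    have := S'.map _ _ F.comm F.comm
    rw [S.z_sq, S'.p_one] at this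
    exact this.symm
  simp only [h, hm, pow_succ, pow_mul, pow_two, e2, one_pow, one_mul] at e
  exact (S.p_other F.ne F.comm).2 e.symm

theorem Std.odd_conj (S : Std L z p) (F : Fus z g) {n o : G} (hn : n * z = z * n) (ho : o ∈ Odd' L g) :
    n * o * n⁻¹ ∈ Odd' L g := by
  refine S.odd_mem F (mem_centralizer_iff.mpr fun l hl => ?_) ?_
  · have h := S.norm n⁻¹ (Commute.inv_left hn).eq l hl
    rw [inv_inv] at h
    calc l * (n * o * n⁻¹) = n * (n⁻¹ * l * n * o) * n⁻¹ := by group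
      _ = n * o * n⁻¹ * l := by rw [mem_centralizer_iff.mp ho.1 _ h]; group
  · rw [show n * o * n⁻¹ = MulAut.conj n o from rfl, MulEquiv.orderOf_eq]
    exact (S.odd_card F).of_dvd_nat (Subgroup.orderOf_dvd_natCard _ ho)

theorem Std.g_conj (S : Std L z p) (F : Fus z g) {o : G} (ho : o ∈ Odd' L g) : g * o * g⁻¹ ∈ Odd' L g := by
  have h1 : g * o * g⁻¹ ∈ centralizer (L.map (MulAut.conj g).toMonoidHom : Set G) :=
    mem_cent_conjL.mpr (by simpa [mul_assoc] using ho.1)
  have h2 : Odd (orderOf (g * o * g⁻¹)) := by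
    rw [show g * o * g⁻¹ = MulAut.conj g o from rfl, MulEquiv.orderOf_eq]
    exact (S.odd_card F).of_dvd_nat (Subgroup.orderOf_dvd_natCard _ ho)
  refine ⟨?_, h1⟩
  have := ((S.conj g).odd_mem F.rev h1 h2).2
  rwa [conj_map_inv] at this

theorem Std.inter_one (S : Std L z p) (F : Fus z g) {x : G} (hx : x ∈ L) (ho : x ∈ Odd' L g) : x = 1 :=
  (S.kerL hx ((S.ker x (S.cen x hx)).mpr ho.1)).resolve_right fun e => S.z_notMem F (e ▸ ho)

theorem Std.even_decomp (S : Std L z p) (F : Fus z g) {n : G} (hn : n * z = z * n)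
    (hs : Perm.sign (p n) = 1) : ∃ l ∈ L, ∃ o ∈ Odd' L g, n = l * o := by
  obtain ⟨l, hl, e⟩ := S.onto hs
  have hlz := S.cen l hl
  have hkz : l⁻¹ * n * z = z * (l⁻¹ * n) := (Commute.mul_left (Commute.inv_left hlz) hn).eq
  have hk : l⁻¹ * n ∈ centralizer (L : Set G) := by
    refine (S.ker _ hkz).mp ?_
    have := S.map _ _ hlz hkz
    rw [mul_inv_cancel_left, ← e] at this
    exact mul_eq_left.mp this.symm
  rcases S.split F hk with h | h
  · exact ⟨l, hl, _, h, by group⟩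
  · refine ⟨l * z, L.mul_mem hl S.memL, _, h, ?_⟩
    rw [hkz, ← mul_assoc, mul_assoc l z z, S.z_sq, mul_one, mul_inv_cancel_left]

theorem Std.decomp_invol (S : Std L z p) (F : Fus z g) {l o : G} (hl : l ∈ L) (ho : o ∈ Odd' L g)
    (h2 : l * o * (l * o) = 1) : o = 1 := by
  have hc : Commute o l := (mem_centralizer_iff.mp ho.1 l hl).symm
  have e : o * o = (l * l)⁻¹ := eq_inv_of_mul_eq_one_right (by rw [← hc.mul_mul_mul_comm]; exact h2)
  have h1 := S.inter_one F (e ▸ L.inv_mem (L.mul_mem hl hl)) (Subgroup.mul_mem _ ho ho)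
  by_contra hne
  haveI : Fact (Nat.Prime 2) := ⟨Nat.prime_two⟩
  have h := Subgroup.orderOf_dvd_natCard _ ho
  rw [orderOf_eq_prime (p := 2) (by rw [pow_two, h1]) hne] at h
  exact Nat.not_even_iff_odd.mpr (S.odd_card F) (even_iff_two_dvd.mpr h)

/-- The involutions of `L` are conjugates of `z`, under elements of `L` and `g`. -/
theorem Std.invol_fused (S : Std L z p) (F : Fus z g) {v : G} (hv : v ∈ L) (h2 : v * v = 1) (h1 : v ≠ 1) :
    v = z ∨ ∃ x ∈ L, v = (x * g) * z * (x * g)⁻¹ := by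
  by_cases h : p v = 1
  · exact Or.inl ((S.kerL hv h).resolve_left h1)
  · obtain ⟨x, hx, e⟩ := S.conj_class (S.mem_of_commute F.ne F.comm) (S.conj g).z_sq
      (S.p_other F.ne F.comm).1 hv h2 h
    exact Or.inr ⟨x, hx, by rw [← e]; group⟩

/-- A Sylow 2-subgroup of `G` lies in the centraliser of `z`. -/
theorem Std.exists_sylow (S : Std L z p) :
    ∃ P : Sylow 2 G, (P : Subgroup G) ≤ centralizer ({z} : Set G) := by
  haveI : Fact (Nat.Prime 2) := ⟨Nat.prime_two⟩
  set N := centralizer ({z} : Set G) with hN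
  have hLN : L ≤ N := fun l hl => mem_centralizer_singleton_iff.mpr (S.cen l hl)
  let Q : Sylow 2 L := default
  have hQ2 : IsPGroup 2 ((Q : Subgroup L).map (Subgroup.inclusion hLN)) := Q.isPGroup'.map _
  obtain ⟨T, hT⟩ := hQ2.exists_le_sylow
  obtain ⟨P, hP⟩ := (T.isPGroup'.map N.subtype).exists_le_sylow
  refine ⟨P, ?_⟩
  by_contra hPN
  set R := (P : Subgroup G) ⊓ N with hR
  have hTR : (T : Subgroup N).map N.subtype = R := by
    refine le_antisymm (le_inf hP (Subgroup.map_subtype_le _)) ?_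
    have hRp : IsPGroup 2 (R.subgroupOf N) := by
      refine (P.isPGroup'.to_le (inf_le_left (b := N))).comap_of_injective N.subtype N.subtype_injective
    have hTle : (T : Subgroup N) ≤ R.subgroupOf N := fun x hx =>
      ⟨hP ⟨x, hx, rfl⟩, x.2⟩
    have := T.is_maximal' hRp hTle
    intro x hx
    exact ⟨⟨x, hx.2⟩, this ▸ (show (⟨x, hx.2⟩ : N) ∈ R.subgroupOf N from hx), rfl⟩
  haveI : Group.IsNilpotent (P : Subgroup G) := P.isPGroup'.isNilpotent
  have hlt : R.subgroupOf (P : Subgroup G) < ⊤ :=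
    lt_of_le_of_ne le_top fun e => hPN fun x hx => ((Subgroup.subgroupOf_eq_top.mp e) hx).2
  obtain ⟨u, hu, huR⟩ := SetLike.exists_of_lt
    (normalizerCondition_of_isNilpotent (G := (P : Subgroup G)) _ hlt)
  have huN : (u : G) * z * (u : G)⁻¹ ≠ z := fun e => huR ⟨u.2, mem_centralizer_singleton_iff.mpr
    (mul_inv_eq_iff_eq_mul.mp e)⟩
  have hzN : z ∈ N := mem_centralizer_singleton_iff.mpr rfl
  have hzT : (⟨z, hzN⟩ : N) ∈ (T : Subgroup N) := by
    have hz2 : IsPGroup 2 (zpowers (⟨z, hzN⟩ : N)) := IsPGroup.iff_card.mpr ⟨1, by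
      rw [Nat.card_zpowers, ← Subgroup.orderOf_coe, S.two, pow_one]⟩
    have hn : (zpowers (⟨z, hzN⟩ : N)).Normal := ⟨fun x hx y => by
      obtain ⟨k, rfl⟩ := mem_zpowers_iff.mp hx
      have hc : Commute y (⟨z, hzN⟩ : N) := Subtype.ext (mem_centralizer_singleton_iff.mp y.2)
      rw [(hc.zpow_right k).eq, mul_inv_cancel_right]
      exact zpow_mem_zpowers _ k⟩
    haveI := hn
    exact hz2.le_sylow_of_normal T (mem_zpowers _)
  have hzR : z ∈ R := hTR ▸ ⟨⟨z, hzN⟩, hzT, rfl⟩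
  have hmemR : ∀ x ∈ R, (u : G) * x * (u : G)⁻¹ ∈ R := fun x hx => by
    have h := (mem_normalizer_iff.mp hu ⟨x, hx.1⟩).mp hx
    exact h
  have hbN : (u : G) * z * (u : G)⁻¹ ∈ N := (hmemR z hzR).2
  have hbL := S.mem_of_commute huN (mem_centralizer_singleton_iff.mp hbN).symm
  have hb1 := (S.p_other huN (mem_centralizer_singleton_iff.mp hbN).symm).1
  have hb2 : (u : G) * z * (u : G)⁻¹ * ((u : G) * z * (u : G)⁻¹) = 1 := (S.conj (u : G)).z_sq
  set b := (u : G) * z * (u : G)⁻¹ with hb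
  have hbQ : ∀ x : L, x ∈ (Q : Subgroup L) → (x : G) * b = b * x := fun x hx => by
    have hxR : (x : G) ∈ R := hTR ▸ ⟨⟨x, hLN x.2⟩, hT ⟨x, hx, rfl⟩, rfl⟩
    have h' : (u : G)⁻¹ * x * u ∈ R := by
      have h := (mem_normalizer_iff.mp ((Subgroup.normalizer _).inv_mem hu) ⟨x, hxR.1⟩).mp hxR
      simpa [mem_subgroupOf] using h
    exact comm_conj_iff.mp (mem_centralizer_singleton_iff.mp h'.2)
  -- the centraliser of `b` in `L` has even index
  obtain ⟨y, hy, hye⟩ := S.exists_flip hbL hb2 hb1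
  have hbz : b * z ≠ b := fun e => S.z_ne (mul_eq_left.mp e)
  let W : Subgroup L :=
    { carrier := {x | (x : G) * b * (x : G)⁻¹ = b ∨ (x : G) * b * (x : G)⁻¹ = b * z}
      one_mem' := Or.inl (by simp)
      mul_mem' := fun {x y} hx hy => by
        have e : ((x * y : L) : G) * b * ((x * y : L) : G)⁻¹ = (x : G) * ((y : G) * b * (y : G)⁻¹) * (x : G)⁻¹ := by
          simp [mul_assoc]
        have ez : (x : G) * (b * z) * (x : G)⁻¹ = (x : G) * b * (x : G)⁻¹ * z := by
          rw [show (x : G) * (b * z) * (x : G)⁻¹ = (x : G) * b * (x : G)⁻¹ * ((x : G) * z * (x : G)⁻¹) by group,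
            S.cen x x.2, mul_inv_cancel_right]
        show _ = b ∨ _ = b * z
        rw [e]
        rcases hy with h | h
        · rw [h]; exact hx
        · rw [h, ez]
          rcases hx with h' | h' <;> rw [h']
          · exact Or.inr rfl
          · exact Or.inl (by rw [mul_assoc, S.z_sq, mul_one])
      inv_mem' := fun {x} hx => by
        have ez : (x : G)⁻¹ * z * x = z := by rw [mul_assoc, ← S.cen x x.2, inv_mul_cancel_left]
        show ((x⁻¹ : L) : G) * b * ((x⁻¹ : L) : G)⁻¹ = b ∨ ((x⁻¹ : L) : G) * b * ((x⁻¹ : L) : G)⁻¹ = b * z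
        simp only [InvMemClass.coe_inv, inv_inv]
        rcases hx with h | h
        · left
          calc (x : G)⁻¹ * b * x = (x : G)⁻¹ * ((x : G) * b * (x : G)⁻¹) * x := by rw [h]
            _ = b := by group
        · refine Or.inr ?_
          have : (x : G)⁻¹ * b * x * z = b := by
            calc (x : G)⁻¹ * b * x * z = (x : G)⁻¹ * b * x * ((x : G)⁻¹ * z * x) := by rw [ez]
              _ = (x : G)⁻¹ * ((x : G) * b * (x : G)⁻¹) * x := by rw [h]; group
              _ = b := by group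
          conv_rhs => rw [← this, mul_assoc _ z z, S.z_sq, mul_one] }
  let V : Subgroup W := ((centralizer ({b} : Set G)).subgroupOf L).subgroupOf W
  have hVi : V.index = 2 := by
    refine Subgroup.index_eq_two_iff.mpr ⟨⟨⟨y, hy⟩, Or.inr hye⟩, fun x => ?_⟩
    have hV : ∀ x : W, x ∈ V ↔ ((x : L) : G) * b * ((x : L) : G)⁻¹ = b := fun x => by
      rw [mem_subgroupOf, mem_subgroupOf, mem_centralizer_singleton_iff, mul_inv_eq_iff_eq_mul]
    rw [hV, hV]
    have e : (((x * ⟨⟨y, hy⟩, Or.inr hye⟩ : W) : L) : G) * b * (((x * ⟨⟨y, hy⟩, Or.inr hye⟩ : W) : L) : G)⁻¹ =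
        ((x : L) : G) * b * ((x : L) : G)⁻¹ * z := by
      show ((x : L) : G) * y * b * (((x : L) : G) * y)⁻¹ = _
      rw [show ((x : L) : G) * y * b * (((x : L) : G) * y)⁻¹ =
          ((x : L) : G) * (y * b * y⁻¹) * ((x : L) : G)⁻¹ by group, hye,
        show ((x : L) : G) * (b * z) * ((x : L) : G)⁻¹ =
          ((x : L) : G) * b * ((x : L) : G)⁻¹ * (((x : L) : G) * z * ((x : L) : G)⁻¹) by group,
        S.cen _ (x : L).2, mul_inv_cancel_right]
    rw [e]
    rcases x.2 with h | h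
    · exact Or.inr ⟨h, by rw [h]; exact hbz⟩
    · exact Or.inl ⟨by rw [h, mul_assoc, S.z_sq, mul_one], by rw [h]; exact hbz⟩
  have hQV : (Q : Subgroup L).subgroupOf W ≤ V := fun x hx =>
    mem_subgroupOf.mpr (mem_subgroupOf.mpr (mem_centralizer_singleton_iff.mpr (hbQ x hx)))
  have hQW : (Q : Subgroup L) ≤ W := fun x hx => Or.inl (by rw [hbQ x hx, mul_inv_cancel_right])
  have h2 : 2 ∣ (Q : Subgroup L).index := by
    rw [← Subgroup.relIndex_mul_index hQW]
    have h := Subgroup.index_dvd_of_le hQV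
    rw [hVi] at h
    exact Dvd.dvd.mul_right h _
  exact Q.not_dvd_index h2

/-- In a simple group every element of the centraliser of `z` acts evenly. -/
theorem Std.all_even [IsSimpleGroup G] (hG : ¬ IsMulCommutative G) (S : Std L z p) (F : Fus z g) {n₀ : G}
    (hn₀ : n₀ * z = z * n₀) : Perm.sign (p n₀) = 1 := by
  classical
  by_contra hs₀
  have hs : Perm.sign (p n₀) = -1 := (Int.units_eq_one_or _).resolve_left hs₀
  haveI : Fact (Nat.Prime 2) := ⟨Nat.prime_two⟩
  obtain ⟨P, hP⟩ := S.exists_sylow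
  set N := centralizer ({z} : Set G) with hN
  let χ : N →* ℤˣ := Perm.sign.comp
    { toFun := fun x => p x
      map_one' := S.p_one
      map_mul' := fun x y =>
        S.map _ _ (mem_centralizer_singleton_iff.mp x.2) (mem_centralizer_singleton_iff.mp y.2) }
  set N0 := χ.ker.map N.subtype with hN0
  have hmem : ∀ x : G, x ∈ N0 → x * z = z * x ∧ Perm.sign (p x) = 1 := by
    rintro _ ⟨x, hx, rfl⟩; exact ⟨mem_centralizer_singleton_iff.mp x.2, hx⟩
  have hmem' : ∀ x : G, x * z = z * x → Perm.sign (p x) = 1 → x ∈ N0 := fun x hx h =>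
    ⟨⟨x, mem_centralizer_singleton_iff.mpr hx⟩, h, rfl⟩
  obtain ⟨t, htP, hts⟩ : ∃ t ∈ (P : Subgroup G), Perm.sign (p t) = -1 := by
    by_contra! hall
    have hle : (P : Subgroup G) ≤ N0 := fun x hx => hmem' x (mem_centralizer_singleton_iff.mp (hP hx))
      ((Int.units_eq_one_or _).resolve_right (hall x hx))
    have h2 : 2 ∣ N0.index := by
      rw [hN0, Subgroup.index_map_subtype]
      refine Dvd.dvd.mul_right ?_ _
      rw [Subgroup.index_ker]
      have : χ.range = ⊤ := eq_top_iff.mpr fun u _ => by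
        rcases Int.units_eq_one_or u with rfl | rfl
        · exact one_mem _
        · exact ⟨⟨n₀, mem_centralizer_singleton_iff.mpr hn₀⟩, hs⟩
      rw [this, Subgroup.card_top, Nat.card_eq_fintype_card, Fintype.card_units_int]
    exact P.not_dvd_index (h2.trans (Subgroup.index_dvd_of_le hle))
  set Q := (P : Subgroup G) ⊓ N0 with hQ
  have hQi : Q.relIndex (P : Subgroup G) = 2 := by
    refine Subgroup.index_eq_two_iff.mpr ⟨⟨t, htP⟩, fun x => ?_⟩
    have hxz := mem_centralizer_singleton_iff.mp (hP x.2)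
    have htz := mem_centralizer_singleton_iff.mp (hP htP)
    have hmQ : ∀ y : (P : Subgroup G), y ∈ Q.subgroupOf (P : Subgroup G) ↔ Perm.sign (p y) = 1 := fun y => by
      rw [mem_subgroupOf]
      exact ⟨fun h => (hmem _ h.2).2, fun h => ⟨y.2, hmem' _ (mem_centralizer_singleton_iff.mp (hP y.2)) h⟩⟩
    rw [hmQ, hmQ]
    show Xor (Perm.sign (p ((x : G) * t)) = 1) _
    rw [S.map _ _ hxz htz, map_mul, hts]
    rcases Int.units_eq_one_or (Perm.sign (p x)) with e | e <;> rw [e]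
    · exact Or.inr ⟨rfl, by decide⟩
    · exact Or.inl ⟨by decide, by decide⟩
  -- an outer involution
  obtain ⟨l, hl, hle⟩ := S.onto (σ := swap 0 1 * (p n₀)⁻¹) (by
    rw [map_mul, map_inv, hs, Perm.sign_swap (by decide)]; rfl)
  set n := l * n₀ with hn
  have hnz : n * z = z * n := (Commute.mul_left (S.cen l hl) hn₀).eq
  have hpn : p n = swap 0 1 := by rw [hn, S.map _ _ (S.cen l hl) hn₀, hle, inv_mul_cancel_right]
  have hk : n * n ∈ centralizer (L : Set G) := (S.ker _ (Commute.mul_left hnz hnz).eq).mp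
    (by rw [S.map _ _ hnz hnz, hpn]; exact swap_mul_self 0 1)
  set m := Nat.card (Odd' L g) with hm
  obtain ⟨j, hj⟩ := S.odd_card F
  set n' := n ^ m with hn'
  have hn'z : n' * z = z * n' := (Commute.pow_left hnz m).eq
  have hpn' : p n' = swap 0 1 := by
    rw [hn', S.p_pow hnz, hpn, hm, hj, pow_succ, pow_mul, pow_two, swap_mul_self, one_pow, one_mul]
  have hom : ∀ o ∈ Odd' L g, o ^ m = 1 := fun o ho =>
    orderOf_dvd_iff_pow_eq_one.mp (Subgroup.orderOf_dvd_natCard _ ho)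
  have hzm : z ^ m = z := by rw [hm, hj, pow_succ, pow_mul, pow_two, S.z_sq, one_pow, one_mul]
  have hsq : n' * n' = 1 ∨ n' * n' = z := by
    rw [hn', ← pow_add, ← two_mul, pow_mul, pow_two]
    rcases S.split F hk with h | h
    · exact Or.inl (hom _ h)
    · refine Or.inr ?_
      have e : n * n = n * n * z * z := by rw [mul_assoc (n * n), S.z_sq, mul_one]
      rw [e, Commute.mul_pow (Commute.mul_left (Commute.mul_left hnz hnz) rfl), hom _ h, hzm, one_mul]
  obtain ⟨u, huz, hu2, hus⟩ : ∃ u, u * z = z * u ∧ u * u = 1 ∧ Perm.sign (p u) = -1 := by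
    rcases hsq with h | h
    · exact ⟨n', hn'z, h, by rw [hpn', Perm.sign_swap (by decide)]⟩
    · obtain ⟨x, hx, hxn, hxx⟩ := S.exists_lift hn'z (by rw [hpn']; exact swap_mul_self 0 1)
        (by rw [hpn', Perm.sign_swap (by decide)])
      refine ⟨n' * x, (Commute.mul_left hn'z (S.cen x hx)).eq, ?_, ?_⟩
      · rw [Commute.mul_mul_mul_comm hxn, h, hxx, S.z_sq]
      · rw [S.map _ _ hn'z (S.cen x hx), map_mul, S.sign_L hx, mul_one, hpn', Perm.sign_swap (by decide)]
  have hu1 : u ≠ 1 := fun e => by rw [e, S.p_one, map_one] at hus; exact absurd hus (by decide)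
  have hno : ∀ c : G, c * u * c⁻¹ ∉ Q := by
    intro c hc
    obtain ⟨hvz, hvs⟩ := hmem _ hc.2
    obtain ⟨l', hl', o, ho, e⟩ := S.even_decomp F hvz hvs
    have hv2 : c * u * c⁻¹ * (c * u * c⁻¹) = 1 := by
      rw [show c * u * c⁻¹ * (c * u * c⁻¹) = c * (u * u) * c⁻¹ by group, hu2]; group
    have ho1 := S.decomp_invol F hl' ho (by rw [← e]; exact hv2)
    rw [ho1, mul_one] at e
    obtain ⟨d, hd⟩ : ∃ d, d * z * d⁻¹ = c * u * c⁻¹ := by
      rcases S.invol_fused F hl' (e ▸ hv2) (fun h => hu1 (conj_eq_one_iff.mp (e.trans h))) with h | ⟨x, -, h⟩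
      · exact ⟨1, by rw [e, h]; group⟩
      · exact ⟨x * g, by rw [e, ← h]⟩
    have hd' : c⁻¹ * d * z * (c⁻¹ * d)⁻¹ = u := by
      calc c⁻¹ * d * z * (c⁻¹ * d)⁻¹ = c⁻¹ * (d * z * d⁻¹) * c := by group
        _ = u := by rw [hd]; group
    have hne : u ≠ z := fun h => by rw [h, S.p_z, map_one] at hus; exact absurd hus (by decide)
    have := S.mem_of_commute (g := c⁻¹ * d) (by rw [hd']; exact hne) (by rw [hd']; exact huz.symm)
    rw [hd'] at this
    rw [S.sign_L this] at hus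
    exact absurd hus (by decide)
  obtain ⟨θ, hθ⟩ := CfsgA8C.transfer_neg P Q inf_le_left hQi u hu2 hno
  rw [CfsgLib.JT.hom_trivial hG θ u] at hθ
  exact absurd hθ (by decide)

end CfsgLib.StdTwoAEight
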