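import Cfsg.Agent.Lib.StdTwoAEight.Build
import Cfsg.Agent.Lib.StdTwoAEight.Split
import Cfsg.Agent.Lib.McLChar.Final
import Cfsg.Agent.Lib.ZStar.Main
import Cfsg.Agent.Lib.Basic
import Cfsg.Agent.S3334
import Cfsg.Agent.S0223
import Cfsg.Agent.S1225

/-!
A simple group with a standard subgroup of type 2.A8 is the McLaughlin group.
-/

set_option autoImplicit false
set_option linter.unusedSectionVars false

namespace CfsgLib.StdTwoAEight

open Equiv Subgroup CfsgLib.McLInvol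

variable {G : Type*} [Group G] [Finite G]

theorem invol_eq_one_of_odd {H : Subgroup G} (hodd : Odd (Nat.card H)) {e : G} (he : e ∈ H) (h2 : e * e = 1) :
    e = 1 := by
  by_contra hne
  haveI : Fact (Nat.Prime 2) := ⟨Nat.prime_two⟩
  have h := Subgroup.orderOf_dvd_natCard _ he
  rw [orderOf_eq_prime (p := 2) (by rw [pow_two, h2]) hne] at h
  exact Nat.not_even_iff_odd.mpr hodd (even_iff_two_dvd.mpr h)

theorem mem_normalizer_of_conj {H : Subgroup G} {x : G} (h : ∀ o ∈ H, x * o * x⁻¹ ∈ H) :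
    x ∈ normalizer (H : Set G) := by
  have hle : H.map (MulAut.conj x).toMonoidHom ≤ H := by
    rintro _ ⟨o, ho, rfl⟩; exact h o ho
  have heq := Subgroup.eq_of_le_of_card_ge hle
    (le_of_eq (Subgroup.card_map_of_injective (K := H) (MulAut.conj x).injective).symm)
  refine mem_normalizer_iff.mpr fun o => ⟨h o, fun hxo => ?_⟩
  rw [← heq, mem_conjL] at hxo
  simpa [mul_assoc] using hxo

theorem exists_mcl_equiv : Nonempty (↥Cfsg.Spor.McL ≃* ↥McLP) := by
  obtain ⟨e1⟩ := CfsgLeech.spor_mcl_equiv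
  obtain ⟨-, -, ⟨e2⟩⟩ := CfsgLeech.Models.mcl_model
  exact ⟨e1.trans e2⟩

variable [IsSimpleGroup G] {L : Subgroup G} {z : G} {p : G → Perm (Fin 8)}

theorem exists_fus (hG : ¬ IsMulCommutative G) (S : Std L z p) : ∃ g, Fus z g := by
  by_contra! hno
  have hiso : Cfsg.IsIsolated z := fun g hg => by
    by_contra hne
    exact hno g ⟨hne, hg⟩
  have hodd : ¬ 2 ∣ Nat.card (Cfsg.oddCore G) := CfsgLib.not_dvd_card_pPrimeCore Nat.prime_two
  have hbot : Cfsg.oddCore G = ⊥ := by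
    rcases (inferInstance : (Cfsg.oddCore G).Normal).eq_bot_or_eq_top with h | h
    · exact h
    · rw [h, Subgroup.card_top, ← S.two] at hodd
      exact absurd (orderOf_dvd_natCard z) hodd
  have hc : z ∈ center G := mem_center_iff.mpr fun g => by
    have h : g * z * g⁻¹ * z⁻¹ ∈ Cfsg.oddCore G := CfsgLib.ZStar.inZStar S.two hiso g
    rw [hbot, mem_bot, mul_inv_eq_one, mul_inv_eq_iff_eq_mul] at h
    exact h
  rcases (inferInstance : (center G).Normal).eq_bot_or_eq_top with h | h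
  · rw [h, mem_bot] at hc; exact S.z_ne hc
  · exact hG ⟨⟨fun a b => (mem_center_iff.mp (h ▸ mem_top a : a ∈ center G) b).symm⟩⟩

/-- The strongly embedded case is impossible. -/
theorem odd_bot (hG : ¬ IsMulCommutative G) (S : Std L z p) {g : G} (F : Fus z g) (hcard : Nat.card L = 40320)
    (hcov : Cfsg.IsNonsplitDoubleCover ↥L ↥(alternatingGroup (Fin 8))) : Odd' L g = ⊥ := by
  classical
  by_contra hO
  haveI : Fact (Nat.Prime 2) := ⟨Nat.prime_two⟩
  set O := Odd' L g with hOdef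
  set M := normalizer (O : Set G) with hMdef
  set a := g * z * g⁻¹ with hadef
  have haa : a * a = 1 := (S.conj g).z_sq
  have haL : a ∈ L := S.mem_of_commute F.ne F.comm
  have hdec : ∀ n : G, n * z = z * n → ∃ l ∈ L, ∃ o ∈ O, n = l * o := fun n hn =>
    S.even_decomp F hn (S.all_even hG F hn)
  have hgM : g ∈ M := mem_normalizer_of_conj fun o ho => S.g_conj F ho
  have hNM : ∀ n : G, n * z = z * n → n ∈ M := fun n hn => mem_normalizer_of_conj fun o ho => S.odd_conj F hn ho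
  have hLM : L ≤ M := fun l hl => hNM l (S.cen l hl)
  have hzM : z ∈ M := hNM z rfl
  have hMtop : M ≠ ⊤ := fun h => by
    rcases (Subgroup.normalizer_eq_top_iff.mp h).eq_bot_or_eq_top with h' | h'
    · exact hO h'
    · exact S.z_notMem F (h' ▸ mem_top z : z ∈ O)
  have hMev : Even (Nat.card M) := even_iff_two_dvd.mpr (S.two ▸ Subgroup.orderOf_dvd_natCard _ hzM)
  have hfuse : ∀ v ∈ M, orderOf v = 2 → ∃ c ∈ M, c * z * c⁻¹ = v := by
    intro v hv hvo
    obtain ⟨P, hP⟩ := S.exists_sylow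
    have hPM : (P : Subgroup G) ≤ M := fun x hx => hNM x (mem_centralizer_singleton_iff.mp (hP hx))
    have hv2 : IsPGroup 2 (zpowers (⟨v, hv⟩ : M)) := IsPGroup.iff_card.mpr ⟨1, by
      rw [Nat.card_zpowers, ← Subgroup.orderOf_coe, hvo, pow_one]⟩
    obtain ⟨T, hT⟩ := hv2.exists_le_sylow
    obtain ⟨d, hd⟩ := MulAction.exists_smul_eq M T (P.subtype hPM)
    have hw : (d : G) * v * (d : G)⁻¹ ∈ (P : Subgroup G) := by
      have h1 : d * ⟨v, hv⟩ * d⁻¹ ∈ ((d • T : Sylow 2 M) : Subgroup M) := by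
        rw [Sylow.coe_subgroup_smul]
        exact ⟨⟨v, hv⟩, hT (mem_zpowers _), rfl⟩
      rw [hd, Sylow.coe_subtype, mem_subgroupOf] at h1
      exact h1
    set w := (d : G) * v * (d : G)⁻¹ with hwdef
    have hw2 : w * w = 1 := by
      rw [hwdef, show (d : G) * v * (d : G)⁻¹ * ((d : G) * v * (d : G)⁻¹) = (d : G) * (v * v) * (d : G)⁻¹ by group,
        ← pow_two, ← hvo, pow_orderOf_eq_one, mul_one, mul_inv_cancel]
    obtain ⟨l, hl, o, ho, e⟩ := hdec w (mem_centralizer_singleton_iff.mp (hP hw))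
    have ho1 := S.decomp_invol F hl ho (by rw [← e]; exact hw2)
    rw [ho1, mul_one] at e
    have hw1 : w ≠ 1 := fun h => by
      rw [hwdef, conj_eq_one_iff] at h
      rw [h, orderOf_one] at hvo
      omega
    obtain ⟨c, hc, hcw⟩ : ∃ c ∈ M, c * z * c⁻¹ = w := by
      rcases S.invol_fused F hl (e ▸ hw2) (e ▸ hw1) with h | ⟨x, hx, h⟩
      · exact ⟨1, one_mem _, by rw [e, h]; group⟩
      · exact ⟨x * g, mul_mem (hLM hx) hgM, by rw [e, ← h]⟩
    refine ⟨(d : G)⁻¹ * c, mul_mem (M.inv_mem d.2) hc, ?_⟩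
    calc (d : G)⁻¹ * c * z * ((d : G)⁻¹ * c)⁻¹ = (d : G)⁻¹ * (c * z * c⁻¹) * d := by group
      _ = v := by rw [hcw, hwdef]; group
  have hin : ∀ c : G, c * z * c⁻¹ ∈ M → c ∈ M := by
    intro c hc
    have ho : orderOf (c * z * c⁻¹) = 2 := by
      rw [show c * z * c⁻¹ = MulAut.conj c z from rfl, MulEquiv.orderOf_eq, S.two]
    obtain ⟨d, hd, e⟩ := hfuse _ hc ho
    have := hNM (d⁻¹ * c) (by
      calc d⁻¹ * c * z = d⁻¹ * (c * z * c⁻¹) * c := by group
        _ = z * (d⁻¹ * c) := by rw [← e]; group)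
    simpa using mul_mem hd this
  have hSE : Cfsg.IsStronglyEmbedded M := by
    refine (Cfsg.Agent.S0223.result M hMtop hMev).mpr ⟨fun t ht hto x hx => ?_, fun t ht s hs hto hso _ => ?_⟩
    · obtain ⟨c, hc, rfl⟩ := hfuse t ht hto
      have hm : c⁻¹ * x * c ∈ M := hNM _ (comm_conj_iff.mpr (mem_centralizer_singleton_iff.mp hx))
      simpa [mul_assoc] using mul_mem (mul_mem hc hm) (M.inv_mem hc)
    · obtain ⟨c, hc, rfl⟩ := hfuse t ht hto
      obtain ⟨d, hd, rfl⟩ := hfuse s hs hso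
      exact ⟨d * c⁻¹, mul_mem hd (M.inv_mem hc), by group⟩
  obtain ⟨g₀, hg₀⟩ : ∃ x, x ∉ M := not_forall.mp fun h => hMtop (eq_top_iff.mpr fun x _ => h x)
  set u := g₀ * z * g₀⁻¹ with hudef
  have huM : u ∉ M := fun h => hg₀ (hin g₀ h)
  have hu2 : orderOf u = 2 := by rw [hudef, show g₀ * z * g₀⁻¹ = MulAut.conj g₀ z from rfl, MulEquiv.orderOf_eq, S.two]
  -- the quotient by the odd normal subgroup
  set Om := O.subgroupOf M with hOm
  haveI hn : Om.Normal := Subgroup.normal_in_normalizer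
  set mk := QuotientGroup.mk' Om with hmk
  set zq : M ⧸ Om := mk ⟨z, hzM⟩ with hzq
  have hmk1 : ∀ x : M, mk x = 1 ↔ (x : G) ∈ O := fun x => (QuotientGroup.eq_one_iff x).trans mem_subgroupOf
  have hzq2 : orderOf zq = 2 := orderOf_eq_prime
    (by rw [pow_two, hzq, ← map_mul, hmk1]; show z * z ∈ O; rw [S.z_sq]; exact one_mem _)
    (fun h => S.z_notMem F ((hmk1 ⟨z, hzM⟩).mp h))
  -- equality of involutions modulo the odd subgroup
  have hinv : ∀ v : G, v * v = 1 → z⁻¹ * v ∈ O → v = z := by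
    intro v hv hvO
    have := S.decomp_invol F S.memL hvO (by rw [mul_inv_cancel_left]; exact hv)
    exact (inv_mul_eq_one.mp this).symm
  set C := centralizer ({zq} : Set (M ⧸ Om)) with hC
  have hCmem : ∀ x : M, mk x ∈ C → (x : G) * z = z * x := by
    intro x hx
    rw [mem_centralizer_singleton_iff, hzq, ← map_mul, ← map_mul] at hx
    have h := (hmk1 _).mp (by rw [map_mul, map_inv]; exact inv_mul_eq_one.mpr hx.symm :
      mk ((⟨z, hzM⟩ * x)⁻¹ * (x * ⟨z, hzM⟩)) = 1)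
    refine mul_inv_eq_iff_eq_mul.mp (hinv ((x : G) * z * (x : G)⁻¹) (S.conj (x : G)).z_sq ?_)
    have h' := (mem_normalizer_iff.mp x.2 _).mp h
    simp only [Subgroup.coe_mul, InvMemClass.coe_inv] at h'
    rwa [show (x : G) * ((z * (x : G))⁻¹ * ((x : G) * z)) * (x : G)⁻¹ = z⁻¹ * ((x : G) * z * (x : G)⁻¹) by group] at h'
  let f : L →* C := (mk.comp (Subgroup.inclusion hLM)).codRestrict C fun l => by
    show mk _ ∈ C
    rw [mem_centralizer_singleton_iff, hzq, ← map_mul, ← map_mul]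
    exact congrArg mk (Subtype.ext (S.cen l l.2))
  have hf : Function.Bijective f := by
    refine ⟨(injective_iff_map_eq_one f).mpr fun l hl => ?_, fun y => ?_⟩
    · exact Subtype.ext (S.inter_one F l.2 ((hmk1 ⟨l, hLM l.2⟩).mp (congrArg Subtype.val hl)))
    · obtain ⟨x, hx⟩ := QuotientGroup.mk'_surjective Om y.1
      obtain ⟨l, hl, o, ho, e⟩ := hdec x (hCmem x (by rw [hx]; exact y.2))
      refine ⟨⟨l, hl⟩, Subtype.ext ?_⟩
      show mk ⟨l, hLM hl⟩ = _
      rw [← hx]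
      refine inv_mul_eq_one.mp ?_
      rw [← map_inv, ← map_mul, hmk1]
      show l⁻¹ * (x : G) ∈ O
      rw [e, inv_mul_cancel_left]
      exact ho
  have hCcard : Nat.card C = 40320 := (Nat.card_congr (Equiv.ofBijective f hf)).symm.trans hcard
  rcases Cfsg.Agent.S3334.result zq hzq2 (CfsgLib.McLInvol.cover_congr (MulEquiv.ofBijective f hf).symm hcov) with
    htop | hiso
  · set gq : M ⧸ Om := mk ⟨g, hgM⟩
    haveI : (Cfsg.oddCore (M ⧸ Om)).Normal := inferInstance
    obtain ⟨c, hc, d, hd, e⟩ := Subgroup.mem_sup_of_normal_right.mp (htop ▸ mem_top gq :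
      gq ∈ C ⊔ Cfsg.oddCore (M ⧸ Om))
    have zz : zq * zq = 1 := by rw [← pow_two, ← hzq2, pow_orderOf_eq_one]
    have hed : d * zq * d⁻¹ * zq⁻¹ ∈ Cfsg.oddCore (M ⧸ Om) := by
      rw [mul_assoc d zq, mul_assoc]
      exact mul_mem hd ((inferInstance : (Cfsg.oddCore (M ⧸ Om)).Normal).conj_mem _ (inv_mem hd) zq)
    have hcomm : Commute zq (d * zq * d⁻¹) := by
      have h1 : Commute zq (gq * zq * gq⁻¹) := by
        show zq * _ = _ * zq
        rw [hzq, ← map_inv, ← map_mul, ← map_mul, ← map_mul, ← map_mul]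
        exact congrArg mk (Subtype.ext F.comm)
      have hcz : Commute c zq := mem_centralizer_singleton_iff.mp hc
      rw [← e] at h1
      have h2 : Commute (c⁻¹ * zq * c⁻¹⁻¹) (c⁻¹ * (c * d * zq * (c * d)⁻¹) * c⁻¹⁻¹) := (Commute.conj_iff c⁻¹).mpr h1
      rw [(hcz.inv_left).eq, mul_inv_cancel_right,
        show c⁻¹ * (c * d * zq * (c * d)⁻¹) * c⁻¹⁻¹ = d * zq * d⁻¹ by group] at h2
      exact h2
    have hodd : Odd (Nat.card (Cfsg.oddCore (M ⧸ Om))) := by
      have := CfsgLib.not_dvd_card_pPrimeCore (G := M ⧸ Om) Nat.prime_two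
      exact Nat.not_even_iff_odd.mp fun h => this h.two_dvd
    have h1 := invol_eq_one_of_odd hodd hed (by
      rw [(hcomm.inv_left).mul_mul_mul_comm, show d * zq * d⁻¹ * (d * zq * d⁻¹) = d * (zq * zq) * d⁻¹ by group,
        zz, mul_one, mul_inv_cancel, one_mul, ← mul_inv_rev, zz, inv_one])
    have h2 : gq * zq * gq⁻¹ = zq := by
      rw [← e, show c * d * zq * (c * d)⁻¹ = c * (d * zq * d⁻¹) * c⁻¹ by group, mul_inv_eq_one.mp h1,
        mem_centralizer_singleton_iff.mp hc, mul_inv_cancel_right]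
    rw [hzq, ← map_inv, ← map_mul, ← map_mul] at h2
    have h3 := (hmk1 _).mp (by rw [map_mul, map_inv]; exact inv_mul_eq_one.mpr h2.symm :
      mk ((⟨z, hzM⟩ : M)⁻¹ * (⟨g, hgM⟩ * ⟨z, hzM⟩ * ⟨g, hgM⟩⁻¹)) = 1)
    exact F.ne (hinv _ haa h3)
  -- the quotient is McL
  obtain ⟨e0⟩ := hiso
  obtain ⟨e1⟩ := exists_mcl_equiv
  let e : M ⧸ Om ≃* McLP := e0.trans e1
  set D := M ⊓ M.map (MulAut.conj u).toMonoidHom with hDdef
  have hDodd : Odd (Nat.card D) := hSE.2.2 u huM
  set Dq := (D.subgroupOf M).map mk with hDq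
  have hDqodd : Odd (Nat.card (Dq.map e.toMonoidHom)) := by
    rw [Subgroup.card_map_of_injective (K := Dq) e.injective]
    refine hDodd.of_dvd_nat ?_
    rw [hDq, ← Nat.card_congr (Subgroup.subgroupOfEquivOfLe (inf_le_left : D ≤ M)).toEquiv]
    exact Subgroup.card_map_dvd _ _
  refine CfsgMcLChar.odd_small hDqodd ?_
  haveI : MulAction.IsPretransitive Dq ((M ⧸ Om) ⧸ C) := by
    refine MulAction.IsPretransitive.mk fun x y => ?_
    suffices h : ∀ q : (M ⧸ Om) ⧸ C, ∃ d : Dq, d • ((1 : M ⧸ Om) : (M ⧸ Om) ⧸ C) = q by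
      obtain ⟨d, hd⟩ := h x
      obtain ⟨d', hd'⟩ := h y
      exact ⟨d' * d⁻¹, by rw [mul_smul, inv_smul_eq_iff.mpr hd.symm, hd']⟩
    intro q
    induction q using QuotientGroup.induction_on with
    | H qx =>
      obtain ⟨m, rfl⟩ := QuotientGroup.mk'_surjective Om qx
      have hmo : orderOf ((m : G) * z * (m : G)⁻¹) = 2 := by
        rw [show (m : G) * z * (m : G)⁻¹ = MulAut.conj (m : G) z from rfl, MulEquiv.orderOf_eq, S.two]
      obtain ⟨⟨d, hd, hde⟩, -⟩ := Cfsg.Agent.S1225.result M hSE u hu2 huM z ((m : G) * z * (m : G)⁻¹) S.two hzM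
        hmo (mul_mem (mul_mem m.2 hzM) (M.inv_mem m.2))
      refine ⟨⟨mk ⟨d, hd.1⟩, ⟨⟨d, hd.1⟩, hd, rfl⟩⟩, ?_⟩
      show (((mk ⟨d, hd.1⟩ * 1 : M ⧸ Om)) : (M ⧸ Om) ⧸ C) = _
      rw [mul_one, QuotientGroup.eq, mem_centralizer_singleton_iff, hzq, ← map_inv, ← map_mul, ← map_mul,
        ← map_mul]
      refine congrArg mk (Subtype.ext ?_)
      show d⁻¹ * (m : G) * z = z * (d⁻¹ * (m : G))
      calc d⁻¹ * (m : G) * z = d⁻¹ * ((m : G) * z * (m : G)⁻¹) * m := by group
        _ = z * (d⁻¹ * (m : G)) := by rw [← hde]; group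
  have hidx : Nat.card ((M ⧸ Om) ⧸ C) = 22275 := by
    have h := C.index_mul_card
    rw [hCcard, Nat.card_congr e.toEquiv, mclP_card] at h
    rw [← Subgroup.index_eq_card]
    omega
  rw [Subgroup.card_map_of_injective (K := Dq) e.injective, ← hidx,
    ← MulAction.index_stabilizer_of_transitive Dq ((1 : M ⧸ Om) : (M ⧸ Om) ⧸ C)]
  exact Subgroup.index_dvd_card _

theorem main (hG : ¬ IsMulCommutative G) (hL : Cfsg.IsStandardSubgroup L)
    (hLX : Cfsg.IsNonsplitDoubleCover ↥L ↥(alternatingGroup (Fin 8))) :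
    Nonempty (G ≃* ↥Cfsg.Spor.McL) := by
  obtain ⟨z, p, S, -⟩ := exists_std hL hLX
  obtain ⟨g, F⟩ := exists_fus hG S
  have hbot := odd_bot hG S F (card_twoA8 hLX) hLX
  have hN : centralizer ({z} : Set G) = L := le_antisymm (fun n hn => by
    rw [mem_centralizer_singleton_iff] at hn
    obtain ⟨l, hl, o, ho, rfl⟩ := S.even_decomp F hn (S.all_even hG F hn)
    rw [hbot, mem_bot] at ho
    rw [ho, mul_one]
    exact hl) fun l hl => mem_centralizer_singleton_iff.mpr (S.cen l hl)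
  rcases Cfsg.Agent.S3334.result z S.two (by rw [hN]; exact hLX) with h | h
  · exfalso
    have hodd : ¬ 2 ∣ Nat.card (Cfsg.oddCore G) := CfsgLib.not_dvd_card_pPrimeCore Nat.prime_two
    rcases (inferInstance : (Cfsg.oddCore G).Normal).eq_bot_or_eq_top with h' | h'
    · rw [h', sup_bot_eq] at h
      have := mem_centralizer_singleton_iff.mp (h ▸ mem_top g : g ∈ centralizer ({z} : Set G))
      exact F.ne (by rw [this, mul_inv_cancel_right])
    · rw [h', Subgroup.card_top, ← S.two] at hodd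
      exact hodd (orderOf_dvd_natCard z)
  · exact h

end CfsgLib.StdTwoAEight
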