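import Cfsg.Agent.Lib.StdTwoAEight.Perm

/-!
A subgroup of type 2.A8 with tightly embedded centraliser: the conjugates of its central involution
commuting with it lie in the subgroup.
-/

set_option autoImplicit false
set_option linter.unusedSectionVars false

namespace CfsgLib.StdTwoAEight

open Equiv Subgroup
open CfsgAltCentInv (Cov dbl)

variable {G : Type*} [Group G] [Finite G]

/-- A double cover `L` of the alternating group of degree eight with centre generated by `z`, the action `p` of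
the centraliser of `z` on the eight points, and tight embedding of the centraliser of `L`. -/
structure Std (L : Subgroup G) (z : G) (p : G → Perm (Fin 8)) : Prop where
  two : orderOf z = 2
  memL : z ∈ L
  cen : ∀ l ∈ L, l * z = z * l
  norm : ∀ g : G, g * z = z * g → ∀ l ∈ L, g * l * g⁻¹ ∈ L
  map : ∀ a b : G, a * z = z * a → b * z = z * b → p (a * b) = p a * p b
  ker : ∀ a : G, a * z = z * a → (p a = 1 ↔ a ∈ centralizer (L : Set G))
  cover : ∃ π : L →* Perm (Fin 8), (∀ l : L, π l = p l) ∧ Cov π ⟨z, memL⟩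
  tight : ∀ g : G, g * z * g⁻¹ ≠ z → ∀ x, x ∈ centralizer (L : Set G) →
    g⁻¹ * x * g ∈ centralizer (L : Set G) → x * x = 1 → x = 1

variable {L : Subgroup G} {z : G} {p : G → Perm (Fin 8)}

theorem comm_conj_iff {g a b : G} :
    g⁻¹ * a * g * b = b * (g⁻¹ * a * g) ↔ a * (g * b * g⁻¹) = g * b * g⁻¹ * a := by
  constructor
  · intro h
    calc a * (g * b * g⁻¹) = g * (g⁻¹ * a * g * b) * g⁻¹ := by group
      _ = g * b * g⁻¹ * a := by rw [h]; group
  · intro h
    calc g⁻¹ * a * g * b = g⁻¹ * (a * (g * b * g⁻¹)) * g := by group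
      _ = b * (g⁻¹ * a * g) := by rw [h]; group

theorem mem_conjL {g x : G} : x ∈ L.map (MulAut.conj g).toMonoidHom ↔ g⁻¹ * x * g ∈ L := by
  rw [Subgroup.mem_map]
  constructor
  · rintro ⟨y, hy, rfl⟩; simpa [mul_assoc] using hy
  · intro h; exact ⟨_, h, by simp [mul_assoc]⟩

theorem mem_cent_conjL {g x : G} :
    x ∈ centralizer (L.map (MulAut.conj g).toMonoidHom : Set G) ↔ g⁻¹ * x * g ∈ centralizer (L : Set G) := by
  simp only [mem_centralizer_iff, SetLike.mem_coe]
  constructor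
  · intro h l hl
    exact (comm_conj_iff.mpr (h (g * l * g⁻¹) (mem_conjL.mpr (by simpa [mul_assoc] using hl))).symm).symm
  · intro h l hl
    have := (comm_conj_iff.mp (h _ (mem_conjL.mp hl)).symm).symm
    simpa [mul_assoc] using this

theorem conj_map_inv (g : G) :
    (L.map (MulAut.conj g).toMonoidHom).map (MulAut.conj g⁻¹).toMonoidHom = L := by
  ext x
  rw [mem_conjL, mem_conjL]
  simp [mul_assoc]

/-- Conjugating the data. -/
theorem Std.conj (S : Std L z p) (g : G) :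
    Std (L.map (MulAut.conj g).toMonoidHom) (g * z * g⁻¹) (fun x => p (g⁻¹ * x * g)) where
  two := by
    rw [show g * z * g⁻¹ = MulAut.conj g z from rfl, MulEquiv.orderOf_eq]; exact S.two
  memL := ⟨z, S.memL, rfl⟩
  cen := fun l hl => comm_conj_iff.mp (S.cen _ (mem_conjL.mp hl))
  norm := fun a ha l hl => by
    rw [mem_conjL] at hl ⊢
    have := S.norm _ (comm_conj_iff.mpr ha) _ hl
    simpa [mul_assoc] using this
  map := fun a b ha hb => by
    rw [← S.map _ _ (comm_conj_iff.mpr ha) (comm_conj_iff.mpr hb)]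
    congr 1
    group
  ker := fun a ha => (S.ker _ (comm_conj_iff.mpr ha)).trans mem_cent_conjL.symm
  cover := by
    obtain ⟨π, hπ, h⟩ := S.cover
    let e : L ≃* L.map (MulAut.conj g).toMonoidHom := (MulAut.conj g).subgroupMap L
    refine ⟨π.comp e.symm.toMonoidHom, fun l => ?_, ?_⟩
    · obtain ⟨l', rfl⟩ := e.surjective l
      show π (e.symm (e l')) = p (g⁻¹ * (g * l'.1 * g⁻¹) * g)
      rw [e.symm_apply_apply, hπ]
      congr 1
      group
    · have hk : ∀ x, (π.comp e.symm.toMonoidHom) x = 1 ↔ x = 1 ∨ x = e ⟨z, S.memL⟩ := fun x => by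
        show π (e.symm x) = 1 ↔ _
        rw [h.ker, MulEquiv.symm_apply_eq, MulEquiv.symm_apply_eq, map_one]
      refine ⟨h.five, ⟨?_, ?_, ?_, fun x => h.cover.even _, fun σ hσ => ?_⟩, hk, fun e0 => h.ne ?_⟩
      · rw [_root_.commutator_def, ← Subgroup.map_top_of_surjective e.toMonoidHom e.surjective,
          ← Subgroup.map_commutator, ← _root_.commutator_def, h.cover.perfect]
      · intro x hx
        rw [MonoidHom.mem_ker] at hx
        refine mem_center_iff.mpr fun y => e.symm.injective ?_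
        rw [map_mul, map_mul]
        exact h.cover.cen hx _
      · rw [← h.cover.card]
        refine Nat.card_congr ((e.symm.toEquiv.subtypeEquiv fun x => ?_))
        rfl
      · obtain ⟨x, hx⟩ := h.cover.onto σ hσ
        exact ⟨e x, by show π (e.symm (e x)) = σ; rw [e.symm_apply_apply, hx]⟩
      · exact e.injective (e0.trans (map_one e).symm)
  tight := fun a ha x hx hxa h2 => by
    rw [mem_cent_conjL] at hx hxa
    have hne : g⁻¹ * a * g * z * (g⁻¹ * a * g)⁻¹ ≠ z := fun e => ha (by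
      calc a * (g * z * g⁻¹) * a⁻¹ = g * (g⁻¹ * a * g * z * (g⁻¹ * a * g)⁻¹) * g⁻¹ := by group
        _ = g * z * g⁻¹ := by rw [e])
    have := S.tight _ hne _ hx (by simpa [mul_assoc] using hxa)
      (by rw [show g⁻¹ * x * g * (g⁻¹ * x * g) = g⁻¹ * (x * x) * g by group, h2]; group)
    calc x = g * (g⁻¹ * x * g) * g⁻¹ := by group
      _ = 1 := by rw [this]; group

theorem Std.z_sq (S : Std L z p) : z * z = 1 := by
  rw [← pow_two, ← S.two, pow_orderOf_eq_one]

theorem Std.z_ne (S : Std L z p) : z ≠ 1 := fun e => by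
  have := S.two
  rw [e, orderOf_one] at this
  exact absurd this (by norm_num)

theorem Std.z_inv (S : Std L z p) : z⁻¹ = z := inv_eq_of_mul_eq_one_right S.z_sq

theorem Std.z_cent (S : Std L z p) : z ∈ centralizer (L : Set G) :=
  mem_centralizer_iff.mpr fun l hl => S.cen l hl

theorem Std.cent_comm (S : Std L z p) {k : G} (hk : k ∈ centralizer (L : Set G)) : k * z = z * k :=
  (mem_centralizer_iff.mp hk z S.memL).symm

theorem Std.p_one (S : Std L z p) : p 1 = 1 :=
  (S.ker 1 (by rw [one_mul, mul_one])).mpr (one_mem _)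

theorem Std.p_z (S : Std L z p) : p z = 1 := (S.ker z rfl).mpr S.z_cent

theorem Std.sign_L (S : Std L z p) {l : G} (hl : l ∈ L) : Perm.sign (p l) = 1 := by
  obtain ⟨π, hπ, h⟩ := S.cover
  rw [← hπ ⟨l, hl⟩]
  exact h.cover.even _

theorem Std.onto (S : Std L z p) {σ : Perm (Fin 8)} (hσ : Perm.sign σ = 1) : ∃ l ∈ L, p l = σ := by
  obtain ⟨π, hπ, h⟩ := S.cover
  obtain ⟨x, hx⟩ := h.cover.onto σ hσ
  exact ⟨x, x.2, by rw [← hπ, hx]⟩

theorem Std.kerL (S : Std L z p) {l : G} (hl : l ∈ L) (h1 : p l = 1) : l = 1 ∨ l = z := by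
  obtain ⟨π, hπ, h⟩ := S.cover
  exact ((h.ker ⟨l, hl⟩).mp (by rw [hπ]; exact h1)).imp (congrArg Subtype.val) (congrArg Subtype.val)

theorem Std.eq_or (S : Std L z p) {x y : G} (hx : x ∈ L) (hy : y ∈ L) (e : p x = p y) : x = y ∨ x = y * z := by
  obtain ⟨π, hπ, h⟩ := S.cover
  exact (h.eq_or (x := ⟨x, hx⟩) (y := ⟨y, hy⟩) (by rw [hπ, hπ]; exact e)).imp (congrArg Subtype.val)
    (congrArg Subtype.val)

theorem Std.dbl_sq (S : Std L z p) {A : G} (hA : A ∈ L) (h : IsDbl (p A)) : A * A = z := by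
  obtain ⟨π, hπ, hc⟩ := S.cover
  obtain ⟨a, b, c, d, hnd, e⟩ := h
  exact congrArg Subtype.val (hc.dbl_sq hnd (A := ⟨A, hA⟩) (by rw [hπ]; exact e))

theorem Std.anti (S : Std L z p) {A B : G} (hA : A ∈ L) (hB : B ∈ L) (h1 : IsDbl (p A)) (h2 : IsDbl (p B))
    (h3 : IsDbl (p A * p B)) : A * B * A⁻¹ = B * z := by
  obtain ⟨π, hπ, hc⟩ := S.cover
  obtain ⟨a, b, c, d, n1, e1⟩ := h1
  obtain ⟨q, r, s, t, n2, e2⟩ := h2
  obtain ⟨u, v, w, x, n3, e3⟩ := h3
  exact congrArg Subtype.val (hc.anti n1 n2 (A := ⟨A, hA⟩) (B := ⟨B, hB⟩) (by rw [hπ]; exact e1)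
    (by rw [hπ]; exact e2) n3 (by rw [← e3, ← e1, ← e2]))

theorem Std.invol_sq (S : Std L z p) {l : G} (hl : l ∈ L) (h : p l * p l = 1) :
    4 ∣ (p l).support.card ∧ l * l = z ^ ((p l).support.card / 4) := by
  obtain ⟨π, hπ, hc⟩ := S.cover
  have e := hc.invol_sq ⟨l, hl⟩ (by rw [hπ]; exact h)
  rw [hπ] at e
  exact ⟨e.1, by simpa using congrArg Subtype.val e.2⟩

theorem Std.commute_disjoint (S : Std L z p) {A B : G} (hA : A ∈ L) (hB : B ∈ L)
    (hd : ∀ w, p A w ≠ w → p B w = w) : A * B = B * A := by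
  obtain ⟨π, hπ, hc⟩ := S.cover
  exact congrArg Subtype.val (hc.cover.commute_disjoint ⟨B, hB⟩ (p A) (S.sign_L hA)
    (fun w hw => by rw [hπ]; exact hd w hw) ⟨A, hA⟩ (hπ _)).symm.eq

theorem Std.commute_three (S : Std L z p) {A B : G} (hA : A ∈ L) (hB : B ∈ L)
    (h3 : p A * p A * p A = 1) (hc : p A * p B = p B * p A) : A * B = B * A := by
  obtain ⟨π, hπ, h⟩ := S.cover
  refine congrArg Subtype.val (h.odd_commute (x := ⟨A, hA⟩) (y := ⟨B, hB⟩) (m := 3) (by decide) ?_ ?_).eq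
  · rw [map_pow, hπ, pow_three, ← mul_assoc]; exact h3
  · rw [hπ, hπ]; exact hc

/-- Lifts of the axes of an involution. -/
theorem Std.quat (S : Std L z p) {l : G} (hl : l ∈ L) (h2 : p l * p l = 1) (h1 : p l ≠ 1) :
    ∃ i j y : G, (i ∈ L ∧ i * l = l * i) ∧ (j ∈ L ∧ j * l = l * j) ∧ (y ∈ L ∧ y * l = l * y) ∧
      i * i = z ∧ j * j = z ∧ j * i = z * (i * j) ∧
      (y * i * y⁻¹ = j ∨ y * i * y⁻¹ = z * j) ∧ (y * j * y⁻¹ = i * j ∨ y * j * y⁻¹ = z * (i * j)) := by
  obtain ⟨I, J, Y, hax, dI, dJ, dIJ⟩ := exists_axes h2 h1 (S.sign_L hl)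
  have sg : ∀ {π : Perm (Fin 8)}, IsDbl π → Perm.sign π = 1 := by
    rintro _ ⟨a, b, c, d, hnd, rfl⟩; exact CfsgAltCentInv.sign_dbl hnd
  obtain ⟨i, hi, ei⟩ := S.onto (sg dI)
  obtain ⟨j, hj, ej⟩ := S.onto (sg dJ)
  obtain ⟨y, hy, ey⟩ := S.onto hax.signY
  have dis : ∀ {a : G} {A : Perm (Fin 8)}, a ∈ L → p a = A →
      ((∀ w, A w ≠ w → p l w = w) ∨ (∀ w, A w ≠ w → (A * p l) w = w)) → a * l = l * a := by
    intro a A ha ea h
    rcases h with h | h
    · exact S.commute_disjoint ha hl (by rw [ea]; exact h)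
    · have hal : a * l ∈ L := L.mul_mem ha hl
      have e : p (a * l) = A * p l := by rw [S.map _ _ (S.cen _ ha) (S.cen _ hl), ea]
      have hc := S.commute_disjoint ha hal (by rw [ea, e]; exact h)
      calc a * l = a⁻¹ * (a * (a * l)) := by group
        _ = l * a := by rw [hc]; group
  have hzL := fun x (hx : x ∈ L) => S.cen x hx
  have pconj : ∀ {a b : G}, a ∈ L → b ∈ L → p (a * b * a⁻¹) = p a * p b * (p a)⁻¹ := by
    intro a b ha hb
    refine eq_mul_inv_of_mul_eq ?_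
    rw [← S.map _ _ (hzL _ (L.mul_mem (L.mul_mem ha hb) (L.inv_mem ha))) (hzL _ ha),
      ← S.map _ _ (hzL _ ha) (hzL _ hb)]
    congr 1
    group
  refine ⟨i, j, y, ⟨hi, dis hi ei hax.disjI⟩, ⟨hj, dis hj ej hax.disjJ⟩,
    ⟨hy, S.commute_three hy hl (by rw [ey]; exact hax.cube) (by rw [ey]; exact hax.comY)⟩,
    S.dbl_sq hi (ei ▸ dI), S.dbl_sq hj (ej ▸ dJ), ?_, ?_, ?_⟩
  · have h := S.anti hi hj (ei ▸ dI) (ej ▸ dJ) (by rw [ei, ej]; exact dIJ)
    calc j * i = j * z * i * z := by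
          rw [mul_assoc j z i, ← hzL i hi, ← mul_assoc, mul_assoc (j * i), S.z_sq, mul_one]
      _ = i * j * i⁻¹ * i * z := by rw [h]
      _ = z * (i * j) := by rw [inv_mul_cancel_right, hzL _ (L.mul_mem hi hj)]
  · refine (S.eq_or (L.mul_mem (L.mul_mem hy hi) (L.inv_mem hy)) hj
      (by rw [pconj hy hi, ei, ej, ey, hax.map1])).imp_right fun e => e.trans (hzL j hj)
  · refine (S.eq_or (L.mul_mem (L.mul_mem hy hj) (L.inv_mem hy)) (L.mul_mem hi hj)
      (by rw [pconj hy hj, S.map _ _ (hzL _ hi) (hzL _ hj), ei, ej, ey, hax.map2])).imp_right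
      fun e => e.trans (hzL _ (L.mul_mem hi hj))

theorem Std.p_self (S : Std L z p) {g : G} (hne : g * z * g⁻¹ ≠ z) : p (g⁻¹ * z * g) ≠ 1 ∨
    g⁻¹ * z * g * z ≠ z * (g⁻¹ * z * g) := by
  by_contra! h
  exact S.z_ne (S.tight g hne z S.z_cent ((S.ker _ h.2).mp h.1) S.z_sq)

theorem Std.p_other (S : Std L z p) {g : G} (hne : g * z * g⁻¹ ≠ z)
    (hc : z * (g * z * g⁻¹) = g * z * g⁻¹ * z) : p (g * z * g⁻¹) ≠ 1 ∧ p (g⁻¹ * z * g) ≠ 1 := by
  refine ⟨fun h => S.z_ne ?_, (S.p_self hne).resolve_right (not_not.mpr (comm_conj_iff.mpr hc))⟩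
  have h1 := (S.ker _ hc.symm).mp h
  have := S.tight g hne _ h1 (by rw [show g⁻¹ * (g * z * g⁻¹) * g = z by group]; exact S.z_cent)
    (by rw [show g * z * g⁻¹ * (g * z * g⁻¹) = g * (z * z) * g⁻¹ by group, S.z_sq]; group)
  exact conj_eq_one_iff.mp this

/-- The image in the second centraliser of an element commuting with a quaternion group and its automorphism. -/
theorem Std.image_central (S : Std L z p) {g : G} (hne : g * z * g⁻¹ ≠ z)
    (hc : z * (g * z * g⁻¹) = g * z * g⁻¹ * z) {l : G} (hl : l ∈ L) (h2 : p l * p l = 1) (h1 : p l ≠ 1)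
    (hin : ∀ x ∈ L, x * l = l * x → x * (g * z * g⁻¹) = g * z * g⁻¹ * x) {m : G}
    (hm : m * (g * z * g⁻¹) = g * z * g⁻¹ * m) (hmc : ∀ x ∈ L, x * l = l * x → m * x = x * m) :
    p (g⁻¹ * m * g) = 1 ∨ p (g⁻¹ * m * g) = p (g⁻¹ * z * g) := by
  have S' := S.conj g
  set q : G → Perm (Fin 8) := fun x => p (g⁻¹ * x * g)
  have cm : ∀ {a b : G}, a * (g * z * g⁻¹) = g * z * g⁻¹ * a → b * (g * z * g⁻¹) = g * z * g⁻¹ * b →
      a * b * (g * z * g⁻¹) = g * z * g⁻¹ * (a * b) :=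
    fun ha hb => ((Commute.mul_left (ha : Commute _ _) (hb : Commute _ _))).eq
  have qinv : ∀ {a : G}, a * (g * z * g⁻¹) = g * z * g⁻¹ * a → q a⁻¹ = (q a)⁻¹ := by
    intro a ha
    refine eq_inv_of_mul_eq_one_left ?_
    rw [← S'.map _ _ (Commute.inv_left (ha : Commute _ _)).eq ha, inv_mul_cancel]
    exact S'.p_one
  have qconj : ∀ {a b : G}, a * (g * z * g⁻¹) = g * z * g⁻¹ * a → b * (g * z * g⁻¹) = g * z * g⁻¹ * b →
      q (a * b * a⁻¹) = q a * q b * (q a)⁻¹ := fun ha hb => by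
    rw [S'.map _ _ (cm ha hb) (Commute.inv_left (ha : Commute _ _)).eq, S'.map _ _ ha hb, qinv ha]
  obtain ⟨i, j, y, ⟨hi, hil⟩, ⟨hj, hjl⟩, ⟨hy, hyl⟩, ei, ej, eji, ey1, ey2⟩ := S.quat hl h2 h1
  have ci := hin i hi hil
  have cj := hin j hj hjl
  have cy := hin y hy hyl
  have zq : q z * q z = 1 := by rw [← S'.map _ _ hc hc, S.z_sq]; exact S'.p_one
  refine quat_centralizer (I := q i) (J := q j) (Y := q y) zq (S.p_other hne hc).2
    (by rw [← S'.map _ _ ci ci, ei]) (by rw [← S'.map _ _ cj cj, ej]) ?_ ?_ ?_ ?_ ?_ ?_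
  · rw [← S'.map _ _ cj ci, eji, S'.map _ _ hc (cm ci cj), S'.map _ _ ci cj]
  · refine ey1.imp (fun e => ?_) (fun e => ?_)
    · rw [← qconj cy ci, e]
    · rw [← qconj cy ci, e, S'.map _ _ hc cj]
  · refine ey2.imp (fun e => ?_) (fun e => ?_)
    · rw [← qconj cy cj, e, S'.map _ _ ci cj]
    · rw [← qconj cy cj, e, S'.map _ _ hc (cm ci cj), S'.map _ _ ci cj]
  all_goals show q _ * q _ = q _ * q _
  · rw [← S'.map _ _ hm ci, hmc i hi hil, S'.map _ _ ci hm]
  · rw [← S'.map _ _ hm cj, hmc j hj hjl, S'.map _ _ cj hm]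
  · rw [← S'.map _ _ hm cy, hmc y hy hyl, S'.map _ _ cy hm]

/-- A conjugate of `z` commuting with it which acts evenly lies in `L`. -/
theorem Std.even_mem (S : Std L z p) {g : G} (hne : g * z * g⁻¹ ≠ z)
    (hc : z * (g * z * g⁻¹) = g * z * g⁻¹ * z) (hs : Perm.sign (p (g * z * g⁻¹)) = 1) : g * z * g⁻¹ ∈ L := by
  have S' := S.conj g
  set a := g * z * g⁻¹ with ha
  have haa : a * a = 1 := S'.z_sq
  obtain ⟨l, hl, el⟩ := S.onto hs
  have hlz := S.cen l hl
  set k := l⁻¹ * a with hk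
  have hkz : k * z = z * k := ((Commute.inv_left (hlz : Commute _ _)).mul_left (hc.symm : Commute _ _)).eq
  have hkC : k ∈ centralizer (L : Set G) := by
    refine (S.ker _ hkz).mp ?_
    have : p l * p k = p l := by rw [← S.map _ _ hlz hkz, hk, mul_inv_cancel_left, el]
    exact mul_eq_left.mp this
  have hlk : l * k = k * l := mem_centralizer_iff.mp hkC l hl
  have hal : a = l * k := by rw [hk, mul_inv_cancel_left]
  have hk_in : ∀ x ∈ L, x * l = l * x → x * a = a * x := fun x hx hxl => by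
    rw [hal]; exact (Commute.mul_right hxl (mem_centralizer_iff.mp hkC x hx)).eq
  have hla : l * a = a * l := hk_in l hl rfl
  have h2 : p l * p l = 1 := by rw [el, ← S.map _ _ hc.symm hc.symm, haa, S.p_one]
  have h1 : p l ≠ 1 := el ▸ (S.p_other hne hc).1
  have himg := S.image_central hne hc hl h2 h1 hk_in hla (fun x _ h => h.symm)
  obtain ⟨h4, hsq⟩ := S.invol_sq hl h2
  rcases support_cases h2 h1 with ⟨-, hcd | hcd⟩ | ⟨e, -⟩
  · exfalso
    rw [hcd, Nat.div_self (by norm_num), pow_one] at hsq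
    refine (S.p_other hne hc).2 ?_
    have e := S'.map l l hla hla
    rw [hsq] at e
    rcases himg with h | h <;> simp only [h] at e
    · simpa using e
    · exact mul_eq_left.mp (e.symm)
  · rw [hcd, show 8 / 4 = 2 by norm_num, pow_two, S.z_sq] at hsq
    have hkk : k * k = 1 := by
      calc k * k = l * l * (k * k) := by rw [hsq, one_mul]
        _ = l * k * (l * k) := by rw [Commute.mul_mul_mul_comm (hlk.symm : k * l = l * k)]
        _ = 1 := by rw [← hal, haa]
    rcases himg with h | h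
    · have hlC' := (S'.ker l hla).mp h
      have hkC' : k ∈ centralizer (L.map (MulAut.conj g).toMonoidHom : Set G) :=
        Subgroup.mul_mem _ (Subgroup.inv_mem _ hlC') S'.z_cent
      have := S.tight g hne k hkC (mem_cent_conjL.mp hkC') hkk
      rw [hal, this, mul_one]
      exact hl
    · have hlzC' : l * z ∈ centralizer (L.map (MulAut.conj g).toMonoidHom : Set G) := by
        refine (S'.ker _ (Commute.mul_left hla hc).eq).mp ?_
        have e1 := S'.map _ _ hla hc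
        have e2 := S'.map _ _ hc hc
        rw [S.z_sq, S'.p_one] at e2
        rw [e1, h, ← e2]
      have hkC' : k * z ∈ centralizer (L.map (MulAut.conj g).toMonoidHom : Set G) := by
        have e : k * z = (l * z)⁻¹ * a := by
          rw [hkz, hk, mul_inv_rev, S.z_inv, mul_assoc]
        rw [e]
        exact Subgroup.mul_mem _ (Subgroup.inv_mem _ hlzC') S'.z_cent
      have := S.tight g hne _ (Subgroup.mul_mem _ hkC S.z_cent) (mem_cent_conjL.mp hkC')
        (by rw [Commute.mul_mul_mul_comm (hkz.symm : z * k = k * z), hkk, S.z_sq, one_mul])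
      have hkz' : k = z := by rw [← S.z_inv]; exact eq_inv_of_mul_eq_one_left this
      rw [hal, hkz']
      exact L.mul_mem hl S.memL
  · rw [S.sign_L hl] at e; exact absurd e (by decide)

/-- An element acting as an odd involution commutes with a lift of a double transposition. -/
theorem Std.exists_lift (S : Std L z p) {n : G} (hn : n * z = z * n) (h2 : p n * p n = 1)
    (hs : Perm.sign (p n) = -1) : ∃ x ∈ L, x * n = n * x ∧ x * x = z := by
  obtain ⟨I, J, dI, dJ, dIJ, cI, cJ⟩ := exists_commuting h2 hs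
  have sg : ∀ {π : Perm (Fin 8)}, IsDbl π → Perm.sign π = 1 := by
    rintro _ ⟨a, b, c, d, hnd, rfl⟩; exact CfsgAltCentInv.sign_dbl hnd
  obtain ⟨A, hA, eA⟩ := S.onto (sg dI)
  obtain ⟨B, hB, eB⟩ := S.onto (sg dJ)
  have step : ∀ {x : G}, x ∈ L → p n * p x = p x * p n → n * x * n⁻¹ = x ∨ n * x * n⁻¹ = x * z := by
    intro x hx hcx
    have hm := S.norm n hn x hx
    refine S.eq_or hm hx ?_
    have e : p (n * x * n⁻¹) * p n = p n * p x := by
      rw [← S.map _ _ (S.cen _ hm) hn, ← S.map _ _ hn (S.cen _ hx)]; congr 1; group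
    exact mul_right_cancel (e.trans hcx)
  rcases step hA (by rw [eA]; exact cI.eq) with e | e
  · exact ⟨A, hA, (mul_inv_eq_iff_eq_mul.mp e).symm, S.dbl_sq hA (eA ▸ dI)⟩
  rcases step hB (by rw [eB]; exact cJ.eq) with e' | e'
  · exact ⟨B, hB, (mul_inv_eq_iff_eq_mul.mp e').symm, S.dbl_sq hB (eB ▸ dJ)⟩
  have hAB := L.mul_mem hA hB
  have eAB : p (A * B) = I * J := by rw [S.map _ _ (S.cen _ hA) (S.cen _ hB), eA, eB]
  refine ⟨A * B, hAB, (mul_inv_eq_iff_eq_mul.mp ?_).symm, S.dbl_sq hAB (eAB.symm ▸ dIJ)⟩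
  rw [show n * (A * B) * n⁻¹ = n * A * n⁻¹ * (n * B * n⁻¹) by group, e, e', mul_assoc A z,
    ← mul_assoc z B z, ← S.cen B hB, mul_assoc B z z, S.z_sq, mul_one]

/-- Every conjugate of `z` commuting with it and different from it lies in `L`. -/
theorem Std.mem_of_commute (S : Std L z p) {g : G} (hne : g * z * g⁻¹ ≠ z)
    (hc : z * (g * z * g⁻¹) = g * z * g⁻¹ * z) : g * z * g⁻¹ ∈ L := by
  have S' := S.conj g
  set a := g * z * g⁻¹ with ha
  have haa : a * a = 1 := S'.z_sq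
  rcases Int.units_eq_one_or (Perm.sign (p a)) with hs | hs
  · exact S.even_mem hne hc hs
  exfalso
  set q : G → Perm (Fin 8) := fun x => p (g⁻¹ * x * g)
  obtain ⟨x, hx, hxa, hxx⟩ := S.exists_lift hc.symm (by rw [← S.map _ _ hc.symm hc.symm, haa, S.p_one]) hs
  have hqz : Perm.sign (q z) = 1 := by
    rw [← hxx, S'.map _ _ hxa hxa, map_mul]
    exact Int.units_mul_self _
  have hrev : g⁻¹ * a * g⁻¹⁻¹ = z := by rw [ha]; group
  have hne' : g⁻¹ * a * g⁻¹⁻¹ ≠ a := by rw [hrev]; exact fun e => hne e.symm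
  have hzL' : z ∈ L.map (MulAut.conj g).toMonoidHom := by
    have := S'.even_mem hne' (by rw [hrev]; exact hc.symm) (by rw [hrev]; exact hqz)
    rwa [hrev] at this
  have hq2 : q z * q z = 1 := by rw [← S'.map _ _ hc hc, S.z_sq]; exact S'.p_one
  have hq1 : q z ≠ 1 := (S.p_other hne hc).2
  obtain ⟨i, _, _, ⟨hi, hiz⟩, -, -, ei, -⟩ := S'.quat hzL' hq2 hq1
  have hsq : Perm.sign (p a) = 1 := by
    rw [← ei, S.map _ _ hiz hiz, map_mul]
    exact Int.units_mul_self _
  rw [hsq] at hs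
  exact absurd hs (by decide)

end CfsgLib.StdTwoAEight
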