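import Cfsg.Agent.Lib.AltCentInv.Cover

/-!
Facts about permutations of eight points: normal forms of involutions, and the centraliser of a
quaternion group together with an automorphism of order three.
-/

set_option autoImplicit false

namespace CfsgLib.StdTwoAEight

open Equiv
open CfsgAltCentInv (dbl sign_dbl)

variable {τ : Perm (Fin 8)}

theorem invol_cycleType {σ : Perm (Fin 8)} (h : σ * σ = 1) :
    ∃ k, σ.cycleType = Multiset.replicate k 2 ∧ σ.support.card = 2 * k ∧ Perm.sign σ = (-1) ^ k := by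
  have hall : ∀ b ∈ σ.cycleType, b = 2 := fun b hb => by
    have h1 := Perm.two_le_of_mem_cycleType hb
    have h2 : b ∣ 2 := (Perm.dvd_of_mem_cycleType hb).trans
      (orderOf_dvd_of_pow_eq_one (by rw [pow_two, h]))
    exact le_antisymm (Nat.le_of_dvd (by norm_num) h2) h1
  refine ⟨_, Multiset.eq_replicate.mpr ⟨rfl, hall⟩, ?_, ?_⟩
  · rw [← Perm.sum_cycleType, Multiset.eq_replicate.mpr ⟨rfl, hall⟩, Multiset.sum_replicate,
      Multiset.card_replicate, smul_eq_mul, mul_comm]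
  · rw [Perm.sign_of_cycleType, Multiset.eq_replicate.mpr ⟨rfl, hall⟩, Multiset.sum_replicate,
      Multiset.card_replicate, smul_eq_mul, pow_add, mul_comm, pow_mul]
    norm_num

theorem invol_isConj {σ ρ : Perm (Fin 8)} (h : σ * σ = 1) (h' : ρ * ρ = 1)
    (e : σ.support.card = ρ.support.card) : ∃ g, g * ρ * g⁻¹ = σ := by
  obtain ⟨k, hk, hs, -⟩ := invol_cycleType h
  obtain ⟨l, hl, ht, -⟩ := invol_cycleType h'
  exact isConj_iff.mp (Perm.isConj_iff_cycleType_eq.mpr (by rw [hk, hl, show l = k by omega]))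

theorem support_cases {σ : Perm (Fin 8)} (h : σ * σ = 1) (h1 : σ ≠ 1) :
    (Perm.sign σ = 1 ∧ (σ.support.card = 4 ∨ σ.support.card = 8)) ∨
      (Perm.sign σ = -1 ∧ (σ.support.card = 2 ∨ σ.support.card = 6)) := by
  obtain ⟨k, -, hs, hsgn⟩ := invol_cycleType h
  have h0 : σ.support.card ≠ 0 := fun e => h1 (Perm.support_eq_empty_iff.mp (Finset.card_eq_zero.mp e))
  have h8 : σ.support.card ≤ 8 := le_trans (Finset.card_le_univ _) (by simp)
  have : k ≤ 4 := by omega
  interval_cases k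
  · omega
  · exact Or.inr ⟨by rw [hsgn]; rfl, by omega⟩
  · exact Or.inl ⟨by rw [hsgn]; rfl, by omega⟩
  · exact Or.inr ⟨by rw [hsgn]; rfl, by omega⟩
  · exact Or.inl ⟨by rw [hsgn]; rfl, by omega⟩

/-- The data used beside an even involution: two double transpositions with double transposition product and an
element of order three turning them round. -/
structure Axes (σ I J Y : Perm (Fin 8)) : Prop where
  disjI : (∀ w, I w ≠ w → σ w = w) ∨ (∀ w, I w ≠ w → (I * σ) w = w)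
  disjJ : (∀ w, J w ≠ w → σ w = w) ∨ (∀ w, J w ≠ w → (J * σ) w = w)
  signY : Perm.sign Y = 1
  cube : Y * Y * Y = 1
  comY : Y * σ = σ * Y
  map1 : Y * I * Y⁻¹ = J
  map2 : Y * J * Y⁻¹ = I * J

/-- A double transposition. -/
def IsDbl (π : Perm (Fin 8)) : Prop := ∃ a b c d : Fin 8, [a, b, c, d].Nodup ∧ π = dbl a b c d

theorem dbl_conj (g : Perm (Fin 8)) (a b c d : Fin 8) :
    g * dbl a b c d * g⁻¹ = dbl (g a) (g b) (g c) (g d) := CfsgAltCover.Anti.conj_pair g a b c d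

theorem IsDbl.conj {π : Perm (Fin 8)} (h : IsDbl π) (g : Perm (Fin 8)) : IsDbl (g * π * g⁻¹) := by
  obtain ⟨a, b, c, d, hnd, rfl⟩ := h
  refine ⟨g a, g b, g c, g d, ?_, dbl_conj g a b c d⟩
  simpa using hnd.map g.injective

theorem Axes.conj {σ I J Y : Perm (Fin 8)} (h : Axes σ I J Y) (g : Perm (Fin 8)) :
    Axes (g * σ * g⁻¹) (g * I * g⁻¹) (g * J * g⁻¹) (g * Y * g⁻¹) := by
  have key : ∀ A : Perm (Fin 8), ((∀ w, A w ≠ w → σ w = w) ∨ (∀ w, A w ≠ w → (A * σ) w = w)) →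
      (∀ w, (g * A * g⁻¹) w ≠ w → (g * σ * g⁻¹) w = w) ∨
        (∀ w, (g * A * g⁻¹) w ≠ w → ((g * A * g⁻¹) * (g * σ * g⁻¹)) w = w) := by
    intro A hA
    rw [show g * A * g⁻¹ * (g * σ * g⁻¹) = g * (A * σ) * g⁻¹ by group]
    refine hA.imp (fun hA w hw => ?_) (fun hA w hw => ?_) <;> obtain ⟨v, rfl⟩ := g.surjective w <;>
      simp at hw ⊢ <;> exact hA v hw
  refine ⟨key I h.disjI, key J h.disjJ, by simp [h.signY], ?_, ?_, ?_, ?_⟩
  · rw [show g * Y * g⁻¹ * (g * Y * g⁻¹) * (g * Y * g⁻¹) = g * (Y * Y * Y) * g⁻¹ by group, h.cube]; group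
  · rw [show g * Y * g⁻¹ * (g * σ * g⁻¹) = g * (Y * σ) * g⁻¹ by group, h.comY]; group
  · rw [show g * Y * g⁻¹ * (g * I * g⁻¹) * (g * Y * g⁻¹)⁻¹ = g * (Y * I * Y⁻¹) * g⁻¹ by group, h.map1]
  · rw [show g * Y * g⁻¹ * (g * J * g⁻¹) * (g * Y * g⁻¹)⁻¹ = g * (Y * J * Y⁻¹) * g⁻¹ by group, h.map2]; group

/-- Every even involution has axes. -/
theorem exists_axes {σ : Perm (Fin 8)} (h : σ * σ = 1) (h1 : σ ≠ 1) (hs : Perm.sign σ = 1) :
    ∃ I J Y, Axes σ I J Y ∧ IsDbl I ∧ IsDbl J ∧ IsDbl (I * J) := by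
  rcases support_cases h h1 with ⟨-, hc⟩ | ⟨e, -⟩
  swap
  · rw [hs] at e; exact absurd e (by decide)
  obtain ⟨σ₀, I, J, Y, hinv, hcard, hax, hI, hJ, hIJ⟩ :
      ∃ σ₀ I J Y : Perm (Fin 8), σ₀ * σ₀ = 1 ∧ σ.support.card = σ₀.support.card ∧ Axes σ₀ I J Y ∧
        IsDbl I ∧ IsDbl J ∧ IsDbl (I * J) := by
    rcases hc with e | e
    · exact ⟨dbl 0 1 2 3, dbl 4 5 6 7, dbl 4 6 5 7, swap 5 7 * swap 5 6, by decide, by rw [e]; decide,
        ⟨Or.inl (by decide), Or.inl (by decide), by decide, by decide, by decide, by decide, by decide⟩,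
        ⟨4, 5, 6, 7, by decide, rfl⟩, ⟨4, 6, 5, 7, by decide, rfl⟩, ⟨4, 7, 5, 6, by decide, by decide⟩⟩
    · exact ⟨dbl 0 1 2 3 * dbl 4 5 6 7, dbl 0 1 2 3, dbl 2 3 4 5,
        swap 0 4 * swap 0 2 * (swap 1 5 * swap 1 3), by decide, by rw [e]; decide,
        ⟨Or.inr (by decide), Or.inr (by decide), by decide, by decide, by decide, by decide, by decide⟩,
        ⟨0, 1, 2, 3, by decide, rfl⟩, ⟨2, 3, 4, 5, by decide, rfl⟩, ⟨0, 1, 4, 5, by decide, by decide⟩⟩
  obtain ⟨g, rfl⟩ := invol_isConj h hinv hcard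
  refine ⟨_, _, _, hax.conj g, hI.conj g, hJ.conj g, ?_⟩
  rw [show g * I * g⁻¹ * (g * J * g⁻¹) = g * (I * J) * g⁻¹ by group]
  exact hIJ.conj g

/-- An odd involution centralises two double transpositions with double transposition product. -/
theorem exists_commuting {σ : Perm (Fin 8)} (h : σ * σ = 1) (hs : Perm.sign σ = -1) :
    ∃ I J, IsDbl I ∧ IsDbl J ∧ IsDbl (I * J) ∧ Commute σ I ∧ Commute σ J := by
  have h1 : σ ≠ 1 := fun e => by rw [e, map_one] at hs; exact absurd hs (by decide)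
  rcases support_cases h h1 with ⟨e, -⟩ | ⟨-, hc⟩
  · rw [hs] at e; exact absurd e (by decide)
  obtain ⟨σ₀, I, J, hinv, hcard, hI, hJ, hIJ, c1, c2⟩ :
      ∃ σ₀ I J : Perm (Fin 8), σ₀ * σ₀ = 1 ∧ σ.support.card = σ₀.support.card ∧
        IsDbl I ∧ IsDbl J ∧ IsDbl (I * J) ∧ Commute σ₀ I ∧ Commute σ₀ J := by
    rcases hc with e | e
    · exact ⟨swap 0 1, dbl 4 5 6 7, dbl 4 6 5 7, by decide, by rw [e]; decide,
        ⟨4, 5, 6, 7, by decide, rfl⟩, ⟨4, 6, 5, 7, by decide, rfl⟩, ⟨4, 7, 5, 6, by decide, by decide⟩,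
        (by decide : swap 0 1 * dbl 4 5 6 7 = dbl 4 5 6 7 * swap (0 : Fin 8) 1),
        (by decide : swap 0 1 * dbl 4 6 5 7 = dbl 4 6 5 7 * swap (0 : Fin 8) 1)⟩
    · exact ⟨swap 0 1 * dbl 2 3 4 5, dbl 0 1 2 3, dbl 2 3 4 5, by decide, by rw [e]; decide,
        ⟨0, 1, 2, 3, by decide, rfl⟩, ⟨2, 3, 4, 5, by decide, rfl⟩, ⟨0, 1, 4, 5, by decide, by decide⟩,
        (by decide : swap 0 1 * dbl 2 3 4 5 * dbl 0 1 2 3 = dbl 0 1 2 3 * (swap (0 : Fin 8) 1 * dbl 2 3 4 5)),
        (by decide : swap 0 1 * dbl 2 3 4 5 * dbl 2 3 4 5 = dbl 2 3 4 5 * (swap (0 : Fin 8) 1 * dbl 2 3 4 5))⟩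
  obtain ⟨g, rfl⟩ := invol_isConj h hinv hcard
  refine ⟨_, _, hI.conj g, hJ.conj g, ?_, (Commute.conj_iff g).mpr c1, (Commute.conj_iff g).mpr c2⟩
  rw [show g * I * g⁻¹ * (g * J * g⁻¹) = g * (I * J) * g⁻¹ by group]
  exact hIJ.conj g

/-- A permutation of eight points commuting with a quaternion group and an automorphism of it of order three
lies in the centre of the quaternion group. -/
theorem quat_centralizer {I J Y l : Perm (Fin 8)} (h2 : τ * τ = 1) (h1 : τ ≠ 1) (hI : I * I = τ)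
    (hJ : J * J = τ) (hJI : J * I = τ * (I * J)) (hY1 : Y * I * Y⁻¹ = J ∨ Y * I * Y⁻¹ = τ * J)
    (hY2 : Y * J * Y⁻¹ = I * J ∨ Y * J * Y⁻¹ = τ * (I * J)) (cI : Commute l I) (cJ : Commute l J)
    (cY : Commute l Y) : l = 1 ∨ l = τ := by
  classical
  have tI : τ * I = I * τ := by rw [← hI, mul_assoc]
  have tJ : τ * J = J * τ := by rw [← hJ, mul_assoc]
  have tt : ∀ x, τ * (τ * x) = x := fun x => by rw [← mul_assoc, h2, one_mul]
  set H := Subgroup.closure ({I, J} : Set (Perm (Fin 8))) with hHdef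
  have hIH : I ∈ H := Subgroup.subset_closure (Or.inl rfl)
  have hJH : J ∈ H := Subgroup.subset_closure (Or.inr rfl)
  -- normal forms
  let S : Set (Perm (Fin 8)) := {x | ∃ w, (w = 1 ∨ w = I ∨ w = J ∨ w = I * J) ∧ (x = w ∨ x = τ * w)}
  have hTS : ∀ x ∈ S, τ * x ∈ S := by
    rintro _ ⟨w, hw, rfl | rfl⟩
    · exact ⟨_, hw, Or.inr rfl⟩
    · exact ⟨_, hw, Or.inl (tt _)⟩
  have hIS : ∀ x ∈ S, I * x ∈ S := by
    have : ∀ w, (w = 1 ∨ w = I ∨ w = J ∨ w = I * J) → I * w ∈ S := by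
      rintro w (hw | hw | hw | hw) <;> rw [hw]
      · exact ⟨I, by tauto, Or.inl (mul_one I)⟩
      · exact ⟨1, by tauto, Or.inr (by rw [hI, mul_one])⟩
      · exact ⟨I * J, by tauto, Or.inl rfl⟩
      · exact ⟨J, by tauto, Or.inr (by rw [← mul_assoc, hI])⟩
    rintro _ ⟨w, hw, rfl | rfl⟩
    · exact this _ hw
    · rw [← mul_assoc, ← tI, mul_assoc]; exact hTS _ (this _ hw)
  have hJS : ∀ x ∈ S, J * x ∈ S := by
    have : ∀ w, (w = 1 ∨ w = I ∨ w = J ∨ w = I * J) → J * w ∈ S := by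
      rintro w (hw | hw | hw | hw) <;> rw [hw]
      · exact ⟨J, by tauto, Or.inl (mul_one J)⟩
      · exact ⟨I * J, by tauto, Or.inr hJI⟩
      · exact ⟨1, by tauto, Or.inr (by rw [hJ, mul_one])⟩
      · refine ⟨I, by tauto, Or.inl ?_⟩
        rw [← mul_assoc, hJI, mul_assoc, mul_assoc, hJ, ← tI, tt]
    rintro _ ⟨w, hw, rfl | rfl⟩
    · exact this _ hw
    · rw [← mul_assoc, ← tJ, mul_assoc]; exact hTS _ (this _ hw)
  have iI : I⁻¹ = τ * I := inv_eq_of_mul_eq_one_right (by rw [← mul_assoc, ← tI, mul_assoc, hI, h2])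
  have iJ : J⁻¹ = τ * J := inv_eq_of_mul_eq_one_right (by rw [← mul_assoc, ← tJ, mul_assoc, hJ, h2])
  have hHS : ∀ x ∈ H, x ∈ S := by
    intro x hx
    induction hx using Subgroup.closure_induction_left with
    | one => exact ⟨1, by tauto, Or.inl rfl⟩
    | mul_left a ha y _ hy =>
      rcases ha with rfl | rfl
      exacts [hIS y hy, hJS y hy]
    | inv_mul_cancel a ha y _ hy =>
      rcases ha with rfl | rfl
      · rw [iI, mul_assoc]; exact hTS _ (hIS y hy)
      · rw [iJ, mul_assoc]; exact hTS _ (hJS y hy)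
  have hIJsq : I * J * (I * J) = τ := by
    rw [mul_assoc I J, ← mul_assoc J I J, hJI, mul_assoc τ, mul_assoc I J J, hJ, ← tI, tt, hI]
  -- a point with trivial stabiliser
  obtain ⟨x0, hx0⟩ : ∃ x0, τ x0 ≠ x0 := by
    by_contra! hno
    exact h1 (Equiv.ext hno)
  have hfix : ∀ w : Perm (Fin 8), w * w = τ → w x0 ≠ x0 ∧ (τ * w) x0 ≠ x0 := by
    intro w hw
    have ha : w x0 ≠ x0 := fun e => hx0 (by rw [← hw, Perm.mul_apply, e, e])
    refine ⟨ha, fun e => hx0 ?_⟩
    have hsq : τ * w * (τ * w) = τ := by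
      rw [mul_assoc, ← mul_assoc w τ w, show w * τ = τ * w by rw [← hw, mul_assoc], mul_assoc, tt, hw]
    calc τ x0 = (τ * w * (τ * w)) x0 := by rw [hsq]
      _ = x0 := by rw [Perm.mul_apply (τ * w) (τ * w), e, e]
  have free : ∀ a ∈ H, a x0 = x0 → a = 1 := by
    intro a ha e
    obtain ⟨w, hw, hh⟩ := hHS a ha
    rcases hw with rfl | rfl | rfl | rfl
    · rcases hh with rfl | rfl
      · rfl
      · rw [mul_one] at e; exact absurd e hx0
    · rcases hh with rfl | rfl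
      exacts [absurd e (hfix _ hI).1, absurd e (hfix _ hI).2]
    · rcases hh with rfl | rfl
      exacts [absurd e (hfix _ hJ).1, absurd e (hfix _ hJ).2]
    · rcases hh with rfl | rfl
      exacts [absurd e (hfix _ hIJsq).1, absurd e (hfix _ hIJsq).2]
  have eq_of : ∀ a ∈ H, ∀ b ∈ H, a x0 = b x0 → a = b := by
    intro a ha b hb e
    exact (inv_mul_eq_one.mp (free (b⁻¹ * a) (H.mul_mem (H.inv_mem hb) ha)
      (by rw [Perm.mul_apply, e]; exact b.symm_apply_apply x0))).symm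
  have hinj : Function.Injective fun a : H => a.1 x0 := fun a b e => Subtype.ext (eq_of _ a.2 _ b.2 e)
  have ho4 : orderOf I = 4 := orderOf_eq_prime_pow (p := 2) (n := 1)
    (by rw [pow_one, pow_two, hI]; exact h1)
    (by rw [show (2 : ℕ) ^ (1 + 1) = 2 * 2 by norm_num, pow_mul, pow_two I, hI, pow_two, h2])
  have h4 : 4 ∣ Nat.card H := ho4 ▸ H.orderOf_dvd_natCard hIH
  have hle : Nat.card H ≤ 8 := le_trans (Nat.card_le_card_of_injective _ hinj) (by simp)
  have hne : Nat.card H ≠ 4 := fun e => by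
    have hz : Subgroup.zpowers I = H := Subgroup.eq_of_le_of_card_ge (Subgroup.zpowers_le.mpr hIH)
      (le_of_eq (e.trans (by rw [Nat.card_zpowers, ho4])))
    obtain ⟨k, hk⟩ := Subgroup.mem_zpowers_iff.mp (hz.symm ▸ hJH)
    have hc : J * I = I * J := by rw [← hk]; exact ((Commute.refl I).zpow_left k).eq
    rw [hc] at hJI
    exact h1 (mul_eq_right.mp hJI.symm)
  have h8 : Nat.card H = 8 := by
    obtain ⟨k, hk⟩ := h4
    have : 0 < Nat.card H := Nat.card_pos
    omega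
  have hbij : Function.Bijective fun a : H => a.1 x0 :=
    (Nat.bijective_iff_injective_and_card _).mpr ⟨hinj, by rw [h8, Nat.card_fin]⟩
  obtain ⟨⟨c, hc⟩, ec⟩ := hbij.2 (l x0)
  obtain ⟨⟨d, hd⟩, ed⟩ := hbij.2 (Y x0)
  have hlH : ∀ m ∈ H, Commute l m := by
    intro m hm
    induction hm using Subgroup.closure_induction with
    | mem a ha => rcases ha with rfl | rfl <;> assumption
    | one => exact Commute.one_right l
    | mul a b _ _ ha hb => exact ha.mul_right hb
    | inv a _ ha => exact ha.inv_right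
  have tH : τ ∈ H := hI ▸ H.mul_mem hIH hIH
  suffices hcs : c = 1 ∨ c = τ by
    have hl : l = c := by
      refine Equiv.ext fun v => ?_
      obtain ⟨⟨m, hm⟩, rfl⟩ := hbij.2 v
      show l (m x0) = c (m x0)
      rw [← Perm.mul_apply, (hlH m hm).eq, Perm.mul_apply, ← Perm.mul_apply c]
      have hcm : c * m = m * c := by
        rcases hcs with rfl | rfl
        · rw [one_mul, mul_one]
        · have : ∀ w ∈ H, c * w = w * c := fun w hw => by
            induction hw using Subgroup.closure_induction with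
            | mem a ha => rcases ha with rfl | rfl <;> assumption
            | one => rw [one_mul, mul_one]
            | mul a b _ _ ha hb => rw [← mul_assoc, ha, mul_assoc, hb, mul_assoc]
            | inv a _ ha => exact (Commute.inv_right (show Commute c a from ha)).eq
          exact this m hm
      rw [hcm, Perm.mul_apply, show c x0 = l x0 from ec]
    rw [hl]; exact hcs
  have hYH : Y * c * Y⁻¹ ∈ H := by
    have : ∀ w ∈ H, Y * w * Y⁻¹ ∈ H := by
      intro w hw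
      induction hw using Subgroup.closure_induction with
      | mem a ha =>
        rcases ha with rfl | rfl
        · rcases hY1 with e | e <;> rw [e]
          exacts [hJH, H.mul_mem tH hJH]
        · rcases hY2 with e | e <;> rw [e]
          exacts [H.mul_mem hIH hJH, H.mul_mem tH (H.mul_mem hIH hJH)]
      | one => simp
      | mul a b _ _ ha hb =>
        rw [show Y * (a * b) * Y⁻¹ = Y * a * Y⁻¹ * (Y * b * Y⁻¹) by group]; exact H.mul_mem ha hb
      | inv a _ ha => rw [show Y * a⁻¹ * Y⁻¹ = (Y * a * Y⁻¹)⁻¹ by group]; exact H.inv_mem ha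
    exact this c hc
  -- conjugation by `Y` fixes `c` up to the centre
  have key : Y * c * Y⁻¹ * d = d * c := by
    refine eq_of _ (H.mul_mem hYH hd) _ (H.mul_mem hd hc) ?_
    calc (Y * c * Y⁻¹ * d) x0 = (Y * c * Y⁻¹) (d x0) := rfl
      _ = (Y * c * Y⁻¹) (Y x0) := by rw [show d x0 = Y x0 from ed]
      _ = Y (c x0) := by simp
      _ = Y (l x0) := by rw [show c x0 = l x0 from ec]
      _ = l (Y x0) := (Equiv.congr_fun cY.eq x0).symm
      _ = l (d x0) := by rw [show d x0 = Y x0 from ed]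
      _ = d (l x0) := Equiv.congr_fun (hlH d hd).eq x0
      _ = (d * c) x0 := by rw [Perm.mul_apply, show c x0 = l x0 from ec]
  have hcomm : ∀ a ∈ S, ∀ b ∈ S, a * b = b * a ∨ a * b = τ * (b * a) := by
    have hIJ' : I * J = τ * (J * I) := by rw [hJI, tt]
    have hIK : I * (I * J) = τ * (I * J * I) := by
      rw [mul_assoc I J I, hJI, ← mul_assoc I τ, ← tI, mul_assoc, tt]
    have hJK : J * (I * J) = τ * (I * J * J) := by rw [← mul_assoc, hJI, mul_assoc]
    have hc1 : ∀ u v : Perm (Fin 8), (u = 1 ∨ u = I ∨ u = J ∨ u = I * J) → (v = 1 ∨ v = I ∨ v = J ∨ v = I * J) →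
        u * v = v * u ∨ u * v = τ * (v * u) := by
      rintro u v (rfl | rfl | rfl | rfl) (rfl | rfl | rfl | rfl) <;>
        first
          | exact Or.inl rfl
          | exact Or.inl (by rw [one_mul, mul_one])
          | exact Or.inr hIJ'
          | exact Or.inr hJI
          | exact Or.inr hIK
          | exact Or.inr hJK
          | exact Or.inr (by rw [hIK, tt])
          | exact Or.inr (by rw [hJK, tt])
    have tS : ∀ v : Perm (Fin 8), (v = 1 ∨ v = I ∨ v = J ∨ v = I * J) → τ * v = v * τ := by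
      rintro v (rfl | rfl | rfl | rfl)
      · rw [one_mul, mul_one]
      · exact tI
      · exact tJ
      · rw [← mul_assoc, tI, mul_assoc, tJ, mul_assoc]
    rintro a ⟨u, hu, ha⟩ b ⟨v, hv, hb⟩
    have e1 := tS u hu
    have e2 := tS v hv
    have huv := hc1 u v hu hv
    have hf : ∀ p q : Perm (Fin 8), τ * p = p * τ →
        τ * p * q = τ * (p * q) ∧ p * (τ * q) = τ * (p * q) ∧ τ * p * (τ * q) = p * q := fun p q hp => by
      refine ⟨mul_assoc _ _ _, ?_, ?_⟩
      · rw [← mul_assoc, ← hp, mul_assoc]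
      · rw [mul_assoc τ p, ← mul_assoc p τ, ← hp, mul_assoc, tt]
    obtain ⟨f1, f2, f3⟩ := hf u v e1
    obtain ⟨g1, g2, g3⟩ := hf v u e2
    rcases ha with rfl | rfl <;> rcases hb with rfl | rfl <;>
      (try simp only [f1, f2, f3, g1, g2, g3, mul_right_inj]) <;> exact huv
  have hd2 : Y * c * Y⁻¹ = c ∨ Y * c * Y⁻¹ = τ * c := by
    rcases hcomm d (hHS d hd) c (hHS c hc) with e | e
    · left; rw [← mul_left_inj d, key, e]
    · right; rw [← mul_left_inj d, key, e, mul_assoc]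
  have nI : ∀ {u v : Perm (Fin 8)}, (u = v ∨ u = τ * v) → ∀ {w}, (w = u ∨ w = τ * u) → w = v ∨ w = τ * v := by
    rintro u v (rfl | rfl) w (rfl | rfl)
    exacts [Or.inl rfl, Or.inr rfl, Or.inr rfl, Or.inl (tt v)]
  have sym : ∀ {u v : Perm (Fin 8)}, (u = v ∨ u = τ * v) → v = u ∨ v = τ * u := by
    rintro u v (rfl | rfl)
    exacts [Or.inl rfl, Or.inr (tt v).symm]
  -- push the sign through conjugation
  have tY : Y * τ * Y⁻¹ = τ := by
    have h' : Y * τ * Y⁻¹ = Y * I * Y⁻¹ * (Y * I * Y⁻¹) := by rw [← hI]; group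
    rw [h']
    rcases hY1 with e | e <;> rw [e]
    · exact hJ
    · rw [mul_assoc, ← mul_assoc J τ, ← tJ, mul_assoc, tt, hJ]
  have cY' : ∀ w, (c = w ∨ c = τ * w) → (Y * w * Y⁻¹ = w ∨ Y * w * Y⁻¹ = τ * w) := by
    rintro w (rfl | rfl)
    · exact hd2
    · have e : Y * (τ * w) * Y⁻¹ = τ * (Y * w * Y⁻¹) := by
        rw [show Y * (τ * w) * Y⁻¹ = Y * τ * Y⁻¹ * (Y * w * Y⁻¹) by group, tY]
      rw [e] at hd2
      rcases hd2 with e' | e'
      · exact Or.inl (mul_left_cancel e')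
      · exact Or.inr (mul_left_cancel e')
  obtain ⟨w, hw, hcw⟩ := hHS c hc
  rcases hw with hw | hw | hw | hw <;> rw [hw] at hcw
  · rwa [mul_one] at hcw
  · exfalso
    rcases nI (cY' I hcw) (sym hY1) with e | e
    · exact h1 (mul_eq_right.mp (by rw [e] at hJI; exact hJI.symm))
    · have hc' : J * I = I * J := by rw [e, mul_assoc, ← mul_assoc I τ, ← tI, mul_assoc]
      exact h1 (mul_eq_right.mp (hJI.symm.trans hc'))
  · exfalso
    rcases nI (cY' J hcw) (sym hY2) with e | e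
    · have hI1 : I = 1 := mul_eq_right.mp e
      exact h1 (by rw [← hI, hI1, one_mul])
    · have hIt : I = τ := mul_right_cancel e
      exact h1 (by rw [← hI, hIt, h2])
  · exfalso
    have hIJY : Y * (I * J) * Y⁻¹ = I ∨ Y * (I * J) * Y⁻¹ = τ * I := by
      have e0 : J * (I * J) = I := by rw [← mul_assoc, hJI, mul_assoc, mul_assoc, hJ, ← tI, tt]
      rw [show Y * (I * J) * Y⁻¹ = Y * I * Y⁻¹ * (Y * J * Y⁻¹) by group]
      rcases hY1 with e | e <;> rcases hY2 with e' | e' <;> rw [e, e']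
      · exact Or.inl e0
      · exact Or.inr (by rw [← mul_assoc, ← tJ, mul_assoc, e0])
      · exact Or.inr (by rw [mul_assoc, e0])
      · exact Or.inl (by rw [mul_assoc, ← mul_assoc J τ, ← tJ, mul_assoc, e0, tt])
    rcases nI (cY' (I * J) hcw) (sym hIJY) with e | e
    · have hJ1 : J = 1 := mul_eq_left.mp e.symm
      exact h1 (by rw [← hJ, hJ1, one_mul])
    · have : J = τ := mul_left_cancel (a := I) (by rw [← tI]; conv_rhs => rw [e, tt])
      exact h1 (by rw [← hJ, this, h2])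

end CfsgLib.StdTwoAEight
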